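import Cfsg.Agent.H347.Rat.Good
import Cfsg.Agent.CoOneType.ClosingFacts
/-!
`Co₁` has no faithful rational character of degree `23`: the code words vanishing on an octad give an elementary abelian
group of order `32` with all involutions conjugate.
-/

set_option autoImplicit false

namespace Cfsg.Agent.H347.Rat

open Cfsg Cfsg.Agent.SporadicA.GolayBase Cfsg.Agent.SporadicA.Co0Mono Cfsg.Agent.SporadicA.Co1Simple
open Cfsg.Agent.CoOneType.SignFacts (sup mem_sup notMem_sup wt sup_mem wt_cases wt_add_allOne)
open Cfsg.Agent.CoOneType.ClosingFacts (mk mk_mul mk_inv mk_eq_one mk_eq mk_add_allOne isConj_octad)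

/-- The indices of the code words vanishing on the octad with mask `13062145`. -/
def L32 : List ℕ := [0, 150, 372, 482, 568, 686, 844, 986, 1134, 1272, 1306, 1420, 1622, 1728, 1826, 1972, 2122, 2268,
  2366, 2472, 2674, 2788, 2822, 2960, 3108, 3250, 3408, 3526, 3612, 3722, 3944, 4094]

theorem L32_xor : ∀ i ∈ L32, ∀ j ∈ L32, i ^^^ j ∈ L32 := by decide +kernel

theorem L32_lt : ∀ i ∈ L32, i < 4096 := by decide +kernel

theorem L32_nodup : L32.Nodup := by decide +kernel

theorem L32_even : ∀ i ∈ L32, (enc i).testBit 0 = false := by decide +kernel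

theorem L32_pop : ∀ i ∈ L32, i = 0 ∨ popcount (enc i) = 8 ∨ popcount (enc i) = 16 := by decide +kernel

/-- The code word with index `i`. -/
def cw (i : ℕ) : golayCode := ⟨word (enc i), enc_mem i⟩

theorem cw_add (i j : ℕ) : cw i + cw j = cw (i ^^^ j) := by
  apply Subtype.ext
  change word (enc i) + word (enc j) = word (enc (i ^^^ j))
  rw [enc_xor, word_xor]

theorem cw_zero : cw 0 = 0 := by
  apply Subtype.ext
  change word (enc 0) = 0
  rw [show enc 0 = 0 by decide, word_zero]

theorem wt_cw (i : ℕ) : wt (cw i) = popcount (enc i) := by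
  unfold wt sup
  change (support₂ (word (enc i))).card = _
  rw [support₂_word, card_fin]

theorem cw_some_zero {i : ℕ} (hi : i ∈ L32) : (cw i : GolayPt → ZMod 2) (some 0) = 0 := by
  change word (enc i) (some 0) = 0
  rw [word_apply]
  have : idx (some 0) = 0 := by decide
  rw [this, L32_even i hi]
  simp

theorem sgn_inj : ∀ a b : ZMod 2, sgn a = sgn b → a = b := by decide

theorem signCo0_inj {c d : golayCode} (h : signCo0 c = signCo0 d) : c = d := by
  apply Subtype.ext
  funext i
  have h1 : signCo0 c • Cfsg.Agent.SporadicStructure.Co0Base.e8 i = signCo0 d • Cfsg.Agent.SporadicStructure.Co0Base.e8 i := by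
    rw [h]
  have h2 := congrArg (fun v : leechLattice => (v : GolayPt → ℤ) i) h1
  simp only [signCo0_smul, signMap_apply, Cfsg.Agent.SporadicStructure.Co0Base.e8_coe, Pi.single_eq_same] at h2
  apply sgn_inj
  omega

/-- The element of `Co₁`. -/
noncomputable def el (i : ℕ) : Spor.Co1 := mk (signCo0 (cw i))

theorem el_mul (i j : ℕ) : el i * el j = el (i ^^^ j) := by
  rw [el, el, el, ← mk_mul, ← signCo0_add, cw_add]

theorem el_zero : el 0 = 1 := by
  rw [el, cw_zero, signCo0_zero]; rfl

theorem el_inj {i j : ℕ} (hi : i ∈ L32) (hj : j ∈ L32) (h : el i = el j) : i = j := by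
  rw [el, el, mk_eq] at h
  have key : cw i = cw j := by
    rcases h with h | h
    · exact signCo0_inj h
    · exfalso
      rw [← signCo0_add] at h
      have h1 := congrArg (fun c : golayCode => (c : GolayPt → ZMod 2) (some 0)) (signCo0_inj h)
      change (cw i : GolayPt → ZMod 2) (some 0) = (cw j : GolayPt → ZMod 2) (some 0) + 1 at h1
      rw [cw_some_zero hi, cw_some_zero hj] at h1
      exact absurd h1 (by decide)
  have h1 : word (enc i) = word (enc j) := congrArg Subtype.val key
  have h2 := congrArg maskW h1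
  rw [maskW_word (enc_lt i), maskW_word (enc_lt j)] at h2
  exact enc_injOn (L32_lt i hi) (L32_lt j hj) h2

/-- The elementary abelian group of order `32`. -/
noncomputable def E32 : Subgroup Spor.Co1 where
  carrier := {x | ∃ i ∈ L32, el i = x}
  one_mem' := ⟨0, by decide, el_zero⟩
  mul_mem' := by
    rintro _ _ ⟨i, hi, rfl⟩ ⟨j, hj, rfl⟩
    exact ⟨i ^^^ j, L32_xor i hi j hj, (el_mul i j).symm⟩
  inv_mem' := by
    rintro _ ⟨i, hi, rfl⟩
    refine ⟨i, hi, ?_⟩
    rw [eq_inv_iff_mul_eq_one, el_mul, Nat.xor_self, el_zero]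

theorem not_co1 {f : Spor.Co1 → ℤ} (hf : IGood Spor.Co1 f) : False := by
  classical
  have hconj : ∀ a b : Spor.Co1, IsConj a b → f a = f b := by
    intro a b h
    obtain ⟨g, rfl⟩ := isConj_iff.1 h
    exact (hf.cnj g a).symm
  refine hf.pure E32 (L32.toFinset.image el) (fun x => ?_) ?_ ⟨f (el 150), ?_⟩
  · rw [Finset.mem_image]
    simp only [List.mem_toFinset]
    rfl
  · rw [Finset.card_image_of_injOn, List.toFinset_card_of_nodup L32_nodup]
    · decide
    · intro i hi j hj h
      exact el_inj (by simpa using hi) (by simpa using hj) h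
  · rintro _ ⟨i, hi, rfl⟩ hne
    have h8 : wt (cw 150) = 8 := by rw [wt_cw]; decide +kernel
    apply hconj
    rcases L32_pop i hi with h | h | h
    · exact absurd (by rw [h, el_zero]) hne
    · exact isConj_octad (by rw [wt_cw, h]) h8
    · have h1 := wt_add_allOne (cw i)
      rw [wt_cw, h] at h1
      have h2 := isConj_octad (c := cw i + allOne) (d := cw 150) (by omega) h8
      rwa [mk_add_allOne] at h2

end Cfsg.Agent.H347.Rat
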