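import Cfsg.Agent.H347.Rat.Good
/-!
The alternating group of degree `25` has no faithful rational character of degree `23`.
-/

set_option autoImplicit false

namespace Cfsg.Agent.H347.Rat

open Equiv

/-- The plane over the field with five elements. -/
abbrev Pl : Type := ZMod 5 × ZMod 5

/-- An odd permutation commuting with the translation by `(1, 0)`. -/
def oddc : Perm Pl := prodCongrRight fun _ => swap 0 1

theorem sign_oddc : Perm.sign oddc = -1 := by
  rw [oddc, Perm.sign_prodCongrRight]
  simp only [Perm.sign_swap (show (0 : ZMod 5) ≠ 1 by decide), Finset.prod_const, Finset.card_univ, ZMod.card]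
  norm_num

theorem oddc_add (u : Pl) : oddc (u + (1, 0)) = oddc u + (1, 0) := by
  revert u; decide

theorem exists_lin (w : Pl) (hw : w ≠ 0) : ∃ g : Perm Pl, ∀ u, g (u + (1, 0)) = g u + w := by
  have : Fact (Nat.Prime 5) := ⟨by norm_num⟩
  obtain ⟨a, b⟩ := w
  by_cases ha : a = 0
  · subst ha
    have hb : b ≠ 0 := fun h => hw (by rw [h]; rfl)
    refine ⟨⟨fun u => (u.2, b * u.1), fun u => (b⁻¹ * u.2, u.1), fun u => ?_, fun u => ?_⟩, fun u => ?_⟩
    · simp [hb]
    · simp [hb]
    · simp [mul_add]
  · refine ⟨⟨fun u => (a * u.1, b * u.1 + u.2), fun u => (a⁻¹ * u.1, u.2 - b * (a⁻¹ * u.1)), fun u => ?_,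
      fun u => ?_⟩, fun u => ?_⟩
    · simp [ha]
    · simp [ha]
    · simp [mul_add]; ring

theorem exists_even (w : Pl) (hw : w ≠ 0) : ∃ g : Perm Pl, Perm.sign g = 1 ∧ ∀ u, g (u + (1, 0)) = g u + w := by
  obtain ⟨g, hg⟩ := exists_lin w hw
  rcases Int.units_eq_one_or (Perm.sign g) with h | h
  · exact ⟨g, h, hg⟩
  · refine ⟨g * oddc, ?_, fun u => ?_⟩
    · rw [map_mul, h, sign_oddc]; norm_num
    · rw [Perm.mul_apply, Perm.mul_apply, oddc_add, hg]

/-- The translations. -/
def trl : Multiplicative Pl →* alternatingGroup Pl where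
  toFun v := ⟨Equiv.addRight v.toAdd, by
    rw [Perm.mem_alternatingGroup]
    have h1 : (Equiv.addRight v.toAdd : Perm Pl) ^ 5 = 1 := by
      ext1 u
      change u + v.toAdd + v.toAdd + v.toAdd + v.toAdd + v.toAdd = u
      generalize v.toAdd = x
      have : x + x + x + x + x = 0 := by revert x; decide
      calc u + x + x + x + x + x = u + (x + x + x + x + x) := by abel
        _ = u := by rw [this, add_zero]
    have h2 : Perm.sign (Equiv.addRight v.toAdd : Perm Pl) ^ 5 = 1 := by rw [← map_pow, h1, map_one]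
    rcases Int.units_eq_one_or (Perm.sign (Equiv.addRight v.toAdd : Perm Pl)) with h | h
    · exact h
    · rw [h] at h2
      exact absurd h2 (by decide)⟩
  map_one' := by
    apply Subtype.ext
    ext1 u
    exact add_zero u
  map_mul' a b := by
    apply Subtype.ext
    ext1 u
    change u + (a.toAdd + b.toAdd) = u + b.toAdd + a.toAdd
    abel

theorem trl_injective : Function.Injective trl := by
  intro a b h
  have h1 := congrArg (fun g : alternatingGroup Pl => (g : Perm Pl) 0) h
  change (0 : Pl) + a.toAdd = 0 + b.toAdd at h1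
  rw [zero_add, zero_add] at h1
  exact h1

theorem not_alt25 {f : alternatingGroup (Fin 25) → ℤ} (hf : IGood (alternatingGroup (Fin 25)) f) : False := by
  classical
  have e : Pl ≃ Fin 25 := Fintype.equivOfCardEq (by decide)
  have hf' := hf.comp (Equiv.altCongrHom e)
  set F : alternatingGroup Pl → ℤ := fun s => f (Equiv.altCongrHom e s) with hF
  refine hf'.pure trl.range (Finset.univ.image trl) (fun x => by simp) ?_ ⟨F (trl (Multiplicative.ofAdd (1, 0))), ?_⟩
  · rw [Finset.card_image_of_injective _ trl_injective, Finset.card_univ]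
    decide
  · rintro _ ⟨w, rfl⟩ hw
    obtain ⟨g, hg, hg'⟩ := exists_even w.toAdd (fun h => hw (by
      have : w = 1 := h
      rw [this, map_one]))
    let γ : alternatingGroup Pl := ⟨g, Perm.mem_alternatingGroup.2 hg⟩
    have h1 : γ * trl (Multiplicative.ofAdd (1, 0)) * γ⁻¹ = trl w := by
      rw [mul_inv_eq_iff_eq_mul]
      apply Subtype.ext
      ext1 u
      exact hg' u
    rw [← h1]
    exact hf'.cnj _ _

end Cfsg.Agent.H347.Rat
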