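import Cfsg.Agent.H347.Rat.Good
import Cfsg.Agent.OrdDiv.Main
/-!
The known simple groups whose order divides `N0` and is divisible by `23`.
-/

set_option autoImplicit false

namespace Cfsg.Agent.H347.Rat

open Cfsg Cfsg.Agent.OrdDiv

universe u

theorem cands_eq : (cands [(2, 42), (3, 15), (5, 6), (7, 3), (11, 2), (13, 1), (17, 1), (19, 1), (23, 1)] N0).filter
    (fun g => ordN g % 23 == 0) =
    [.alt 23, .alt 24, .alt 25, .psl 2 23, .m23, .m24, .co1, .co2, .co3, .fi23] := by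
  decide +kernel

theorem cand (Tb : OrderTable.{u}) {S : Type u} [Group S] (hk : IsKnownSimple' S)
    (hna : ¬ ∀ a b : S, a * b = b * a) {f : S → ℤ} (hf : IGood S f) :
    ∃ g ∈ [Grp.alt 23, .alt 24, .alt 25, .psl 2 23, .m23, .m24, .co1, .co2, .co3, .fi23], Real g S ∧
      Nat.card S = ordN g := by
  obtain ⟨g, h1, h2, h3⟩ := exists_good Tb hk hna
    (l := [(2, 42), (3, 15), (5, 6), (7, 3), (11, 2), (13, 1), (17, 1), (19, 1), (23, 1)]) (by decide +kernel)
    hf.card
  rw [← cands_eq]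
  refine ⟨g, List.mem_filter.2 ⟨h1, ?_⟩, h2, h3⟩
  rw [← h3]
  simpa using Nat.mod_eq_zero_of_dvd hf.dvd

end Cfsg.Agent.H347.Rat
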