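import Cfsg.Agent.H347.Rat.Red
/-!
The centralizer algebra of an irreducible rational group of odd prime degree is `ℚ`, if the group is not scalar.
-/

set_option autoImplicit false

namespace Cfsg.Agent.H347.Rat

open Module

variable {V : Type*} [AddCommGroup V] [Module ℚ V] [FiniteDimensional ℚ V]
variable {G : Type*} [Group G] {σ : Representation ℚ G V}

theorem comm_scalar [Finite G] (hV : (finrank ℚ V).Prime) (hodd : Odd (finrank ℚ V)) {K : Subgroup G}
    (hK : IrrOn σ K) (φ : Module.End ℚ V) (hφ : ∀ k ∈ K, φ * σ k = σ k * φ) :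
    ∃ c : ℚ, φ = c • (1 : Module.End ℚ V) := by
  classical
  have : Nontrivial V := Module.nontrivial_of_finrank_pos (R := ℚ) hV.pos
  let D : Subalgebra ℚ (Module.End ℚ V) := Subalgebra.centralizer ℚ {f | ∃ k ∈ K, σ k = f}
  have hD : ∀ f : Module.End ℚ V, f ∈ D ↔ ∀ k ∈ K, ∀ v, f (σ k v) = σ k (f v) := by
    intro f
    rw [Subalgebra.mem_centralizer_iff]
    constructor
    · intro h k hk v
      exact (LinearMap.congr_fun (h _ ⟨k, hk, rfl⟩) v).symm
    · rintro h _ ⟨k, hk, rfl⟩
      ext v
      exact (h k hk v).symm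
  have hker : ∀ f ∈ D, f ≠ 0 → ∀ v, f v = 0 → v = 0 := by
    intro f hf hf0 v hv
    have h1 := hK (LinearMap.ker f) (fun k hk w hw => by
      rw [LinearMap.mem_ker] at hw ⊢
      rw [(hD f).1 hf k hk, hw, map_zero])
    rcases h1 with h1 | h1
    · have h2 : v ∈ LinearMap.ker f := LinearMap.mem_ker.2 hv
      rw [h1] at h2
      exact (Submodule.mem_bot ℚ).1 h2
    · exact absurd (LinearMap.ker_eq_top.1 h1) hf0
  have hdom : IsDomain D := by
    have hnz : NoZeroDivisors D := by
      refine ⟨fun {a b} hab => ?_⟩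
      by_contra hno
      push Not at hno
      obtain ⟨ha, hb⟩ := hno
      apply hb
      apply Subtype.ext
      ext v
      refine hker a a.2 (fun h => ha (Subtype.ext h)) _ ?_
      exact LinearMap.congr_fun (congrArg Subtype.val hab) v
    exact NoZeroDivisors.to_isDomain D
  let _ : DivisionRing D := divisionRingOfFiniteDimensional ℚ D
  have hmul : finrank ℚ D * finrank D V = finrank ℚ V := Module.finrank_mul_finrank ℚ D V
  have hdvd : finrank ℚ D ∣ finrank ℚ V := ⟨_, hmul.symm⟩
  rcases (Nat.dvd_prime hV).1 hdvd with h | h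
  · have h1 : D = ⊥ := Subalgebra.eq_bot_of_finrank_one h
    have h2 : φ ∈ D := (hD φ).2 fun k hk v => LinearMap.congr_fun (hφ k hk) v
    rw [h1, Algebra.mem_bot] at h2
    obtain ⟨c, hc⟩ := h2
    exact ⟨c, by rw [← hc, Algebra.algebraMap_eq_smul_one]⟩
  · exfalso
    have h1 : finrank D V = 1 := by
      rw [h] at hmul
      exact Nat.eq_of_mul_eq_mul_left hV.pos (by rw [hmul, mul_one])
    have hsc : ∀ k ∈ K, σ k = 1 ∨ σ k = -1 := by
      intro k hk
      have hfin : σ k ^ Nat.card G = 1 := by
        rw [← map_pow, pow_card_eq_one', map_one]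
      rcases exists_fixed_or_neg hodd (σ k) Nat.card_pos hfin with ⟨v, hv, hv'⟩ | ⟨v, hv, hv'⟩
      · left
        ext w
        obtain ⟨c, hc⟩ := (finrank_eq_one_iff_of_nonzero' v hv).1 h1 w
        rw [← hc]
        change σ k ((c : Module.End ℚ V) v) = (c : Module.End ℚ V) v
        rw [← (hD c).1 c.2 k hk, hv']
      · right
        ext w
        obtain ⟨c, hc⟩ := (finrank_eq_one_iff_of_nonzero' v hv).1 h1 w
        rw [← hc]
        change σ k ((c : Module.End ℚ V) v) = -((c : Module.End ℚ V) v)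
        rw [← (hD c).1 c.2 k hk, hv', map_neg]
    have := finrank_le_one_of_scalar hK hsc
    exact absurd hV.one_lt (by omega)

end Cfsg.Agent.H347.Rat
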