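import Cfsg.Agent.H347.Rat.Cent
import Cfsg.Agent.S0135
import Cfsg.Agent.Characters.Values
import Cfsg.Agent.Lib.SchurRational
/-!
The complex character of a rational representation that is irreducible on a subgroup.
-/

set_option autoImplicit false

namespace Cfsg.Agent.H347.Rat

open Module Cfsg Cfsg.Agent.Characters
open scoped TensorProduct ComplexConjugate

variable {V : Type*} [AddCommGroup V] [Module ℚ V] [FiniteDimensional ℚ V]
variable {T : Type*} [Group T]

/-- Base change of a representation. -/
noncomputable def bc (τ : Representation ℚ T V) : Representation ℂ T (ℂ ⊗[ℚ] V) where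
  toFun t := (τ t).baseChange ℂ
  map_one' := by
    rw [map_one]
    exact LinearMap.baseChange_id
  map_mul' a b := by
    rw [map_mul]
    exact LinearMap.baseChange_comp (A := ℂ) (τ b) (τ a)

/-- The complex character of a rational representation. -/
noncomputable def chi (τ : Representation ℚ T V) (t : T) : ℂ := ((τ.character t : ℚ) : ℂ)

theorem character_bc (τ : Representation ℚ T V) : (bc τ).character = chi τ := by
  funext t
  change LinearMap.trace ℂ _ ((τ t).baseChange ℂ) = _
  rw [LinearMap.trace_baseChange]
  rfl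

theorem isCharacter_chi (τ : Representation ℚ T V) : IsCharacter T (chi τ) := by
  rw [← character_bc]
  exact Core.isCharacter_of_rep _

theorem chi_one (τ : Representation ℚ T V) : chi τ 1 = (finrank ℚ V : ℂ) := by
  rw [chi, Representation.char_one]
  simp

theorem classInner_chi [Fintype T] (τ : Representation ℚ T V) (h1 : 0 < finrank ℚ V)
    (h : ∀ φ : Module.End ℚ V, (∀ t, φ * τ t = τ t * φ) → ∃ c : ℚ, φ = c • (1 : Module.End ℚ V)) :
    classInner (chi τ) (chi τ) = 1 := by
  have hV : Nontrivial V := Module.nontrivial_of_finrank_pos (R := ℚ) h1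
  have hcard : (Nat.card T : ℚ) ≠ 0 := Nat.cast_ne_zero.2 Nat.card_pos.ne'
  have : Invertible (Nat.card T : ℚ) := invertibleOfNonzero hcard
  have h2 := Representation.card_inv_mul_sum_char_mul_char_eq_finrank τ τ
  have h3 : finrank ℚ (Representation.IntertwiningMap τ τ) = 1 := by
    refine finrank_eq_one (Representation.IntertwiningMap.id τ) ?_ ?_
    · intro h
      obtain ⟨v, hv⟩ := exists_ne (0 : V)
      exact hv (congrArg (fun f : Representation.IntertwiningMap τ τ => f v) h)
    · intro f
      obtain ⟨c, hc⟩ := h f.toLinearMap fun t => LinearMap.ext fun v => by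
        exact Representation.IntertwiningMap.isIntertwining _ _ f t v
      refine ⟨c, ?_⟩
      ext v
      have := LinearMap.congr_fun hc v
      exact this.symm
  rw [h3] at h2
  rw [Core.classInner_def]
  have h4 : ∀ g : T, chi τ g * conj (chi τ g) = (((τ.character g * τ.character g⁻¹ : ℚ)) : ℂ) := by
    intro g
    rw [← Core.isCharacter_apply_inv (isCharacter_chi τ) g]
    simp [chi]
  rw [Finset.sum_congr rfl fun g _ => h4 g]
  rw [← Rat.cast_sum, ← Rat.cast_natCast, ← Rat.cast_inv, ← Rat.cast_mul, h2]
  simp

/-- The kernel. -/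
theorem eq_one_of_chi [Finite T] (τ : Representation ℚ T V) (t : T) (h : chi τ t = chi τ 1) : τ t = 1 := by
  rw [chi_one, ← character_bc, ← Module.finrank_baseChange (R := ℂ)] at h
  have h1 : bc τ t = LinearMap.id := (Values.character_eq_finrank_iff (bc τ) t).1 h
  ext v
  have h2 : (1 : ℂ) ⊗ₜ[ℚ] (τ t v) = (1 : ℂ) ⊗ₜ[ℚ] v := LinearMap.congr_fun h1 ((1 : ℂ) ⊗ₜ[ℚ] v)
  exact Module.FaithfullyFlat.tensorProduct_mk_injective (A := ℚ) (B := ℂ) V h2

end Cfsg.Agent.H347.Rat
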