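import Mathlib
import Cfsg.Agent.StandardComponent.AltAut
/-!
Subgroups of small index from actions.
-/

set_option autoImplicit false

namespace Cfsg.Agent.H347.Rat

open MulAction

/-- A transitive action on `n` points gives a subgroup of index `n`. -/
theorem index_of_action {G X : Type*} [Group G] [MulAction G X] (htr : ∀ x y : X, ∃ g : G, g • x = y) (x : X) :
    (stabilizer G x).index = Nat.card X := by
  rw [MulAction.index_stabilizer]
  have : orbit G x = Set.univ := Set.eq_univ_of_forall fun y => htr x y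
  rw [this, Set.ncard_univ]

/-- The same for a homomorphism into the symmetric group. -/
theorem index_of_hom {G X : Type*} [Group G] (φ : G →* Equiv.Perm X) (x : X)
    (htr : ∀ y : X, ∃ g : G, φ g x = y) : ∃ H : Subgroup G, H.index = Nat.card X := by
  refine ⟨(stabilizer (Equiv.Perm X) x).comap φ, ?_⟩
  let _ : MulAction G X := MulAction.compHom X φ
  have h1 : (stabilizer (Equiv.Perm X) x).comap φ = stabilizer G x := by
    ext g
    rfl
  rw [h1]
  refine index_of_action (fun a b => ?_) x
  obtain ⟨g, hg⟩ := htr a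
  obtain ⟨h, hh⟩ := htr b
  refine ⟨h * g⁻¹, ?_⟩
  change φ (h * g⁻¹) a = b
  rw [← hg, ← Equiv.Perm.mul_apply, ← map_mul, inv_mul_cancel_right, hh]

/-- If all automorphisms of the normal subgroup `T` with trivial center are inner, then `G` maps onto `T`. -/
theorem exists_proj {G : Type*} [Group G] (T : Subgroup G) [T.Normal]
    (hcen : ∀ t : T, (∀ s : T, t * s = s * t) → t = 1)
    (hinn : ∀ α : T ≃* T, ∃ k : T, ∀ x, α x = k * x * k⁻¹) :
    ∃ π : G →* T, (∀ t : T, π t = t) ∧ ∀ (g : G) (t : T), g * t * g⁻¹ = (π g * t * (π g)⁻¹ : T) := by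
  have hinj : Function.Injective (MulAut.conj : T →* MulAut T) := by
    rw [injective_iff_map_eq_one]
    intro t ht
    refine hcen t fun s => ?_
    have := DFunLike.congr_fun ht s
    rw [MulAut.conj_apply, MulAut.one_apply] at this
    exact mul_inv_eq_iff_eq_mul.1 this
  have hsurj : Function.Surjective (MulAut.conj : T →* MulAut T) := by
    intro α
    obtain ⟨k, hk⟩ := hinn α
    refine ⟨k, ?_⟩
    ext x : 1
    rw [MulAut.conj_apply, hk]
  let c : T ≃* MulAut T := MulEquiv.ofBijective MulAut.conj ⟨hinj, hsurj⟩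
  let π : G →* T := c.symm.toMonoidHom.comp MulAut.conjNormal
  have h : ∀ (g : G) (t : T), g * t * g⁻¹ = (π g * t * (π g)⁻¹ : T) := by
    intro g t
    have h1 : c (π g) = MulAut.conjNormal g := c.apply_symm_apply _
    have h2 : c (π g) t = π g * t * (π g)⁻¹ := MulAut.conj_apply _ _
    rw [← h2, h1, MulAut.conjNormal_apply]
  refine ⟨π, fun t => ?_, h⟩
  apply hinj
  ext x : 1
  have := h t x
  rw [MulAut.conj_apply, MulAut.conj_apply]
  apply Subtype.ext
  rw [← this]
  rfl

/-- Alternating normal subgroup. -/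
theorem index_alt {G : Type*} [Group G] (T : Subgroup G) [T.Normal] {n : ℕ} (hn : 7 ≤ n)
    (e : T ≃* alternatingGroup (Fin n)) : ∃ H : Subgroup G, H.index = n := by
  obtain ⟨m, rfl⟩ : ∃ m, n = m + 2 := ⟨n - 2, by omega⟩
  obtain ⟨ψ, hψ⟩ := Cfsg.Agent.StandardComponent.AltAut.exists_autHom (m + 2) hn
  let φ : G →* Equiv.Perm (Fin (m + 2)) := (ψ.comp (MulAut.congr e).toMonoidHom).comp MulAut.conjNormal
  have h1 : ∀ (t : T) (x : alternatingGroup (Fin (m + 2))),
      ((e t * x * (e t)⁻¹ : alternatingGroup (Fin (m + 2))) : Equiv.Perm (Fin (m + 2))) = φ t * x * (φ t)⁻¹ := by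
    intro t x
    have h2 := hψ (MulAut.congr e (MulAut.conjNormal (t : G))) x
    have h3 : MulAut.congr e (MulAut.conjNormal (t : G)) x = e t * x * (e t)⁻¹ := by
      change e (MulAut.conjNormal (t : G) (e.symm x)) = _
      have h4 : MulAut.conjNormal (t : G) (e.symm x) = t * e.symm x * t⁻¹ := by
        apply Subtype.ext
        rw [MulAut.conjNormal_apply]
        rfl
      rw [h4, map_mul, map_mul, map_inv, e.apply_symm_apply]
    rw [h3] at h2
    exact h2
  have hT : ∀ t : T, (e t : Equiv.Perm (Fin (m + 2))) = φ t := by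
    intro t
    exact Cfsg.Agent.StandardComponent.AltAut.conj_unique (m := m) (by omega) (h1 t)
  have htr := alternatingGroup.isPretransitive_of_three_le_card (Fin (m + 2)) (by simp; omega)
  obtain ⟨H, hH⟩ := index_of_hom φ (0 : Fin (m + 2)) fun y => by
    obtain ⟨a, ha⟩ := htr.exists_smul_eq 0 y
    refine ⟨e.symm a, ?_⟩
    rw [← hT, e.apply_symm_apply]
    exact ha
  exact ⟨H, by rw [hH, Nat.card_eq_fintype_card, Fintype.card_fin]⟩

/-- A simple normal subgroup of order `6072` gives a subgroup of index `24`. -/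
theorem index_6072 {G : Type*} [Group G] [Finite G] (T : Subgroup G) [T.Normal] (hs : IsSimpleGroup T)
    (hT : Nat.card T = 6072) : ∃ H : Subgroup G, H.index = 24 := by
  have : Fact (Nat.Prime 23) := ⟨by norm_num⟩
  have P : Sylow 23 T := default
  have h1 : Nat.card (Sylow 23 T) ≡ 1 [MOD 23] := card_sylow_modEq_one 23 T
  have hP : Nat.card P = 23 := by
    have h2 := P.card_eq_multiplicity
    have h3 : (Nat.factorization 6072) 23 = 1 := by
      rw [show (6072 : ℕ) = 23 * 264 by norm_num, Nat.factorization_mul (by norm_num) (by norm_num)]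
      rw [Finsupp.add_apply, Nat.Prime.factorization_self (by norm_num),
        Nat.factorization_eq_zero_of_not_dvd (by norm_num)]
    rw [h2, hT, h3, pow_one]
  have h2 : Nat.card (Sylow 23 T) ∣ 264 := by
    have h3 := P.card_dvd_index
    have h4 := (P : Subgroup T).card_mul_index
    rw [hP, hT] at h4
    have h5 : (P : Subgroup T).index = 264 := by omega
    rwa [h5] at h3
  have h3 : Nat.card (Sylow 23 T) ≠ 1 := by
    intro h
    have h4 : (P : Subgroup T).Normal := by
      have : Subsingleton (Sylow 23 T) := (Nat.card_eq_one_iff_unique.1 h).1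
      exact Sylow.normal_of_subsingleton P
    rcases hs.eq_bot_or_eq_top_of_normal _ h4 with h5 | h5
    · rw [h5, Subgroup.card_bot] at hP; omega
    · rw [h5, Subgroup.card_top, hT] at hP; omega
  have h4 : Nat.card (Sylow 23 T) = 24 := by
    have h5 : Nat.card (Sylow 23 T) ≤ 264 := Nat.le_of_dvd (by norm_num) h2
    have h6 : Nat.card (Sylow 23 T) ∈ Nat.divisors 264 := Nat.mem_divisors.2 ⟨h2, by norm_num⟩
    have h7 : Nat.card (Sylow 23 T) % 23 = 1 := h1
    generalize Nat.card (Sylow 23 T) = c at *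
    revert h6 h7 h3
    have : ∀ c ∈ Nat.divisors 264, c ≠ 1 → c % 23 = 1 → c = 24 := by decide +kernel
    intro h3 h6 h7
    exact this c h6 h3 h7
  let φ : G →* Equiv.Perm (Sylow 23 T) := (MulAction.toPermHom (MulAut T) (Sylow 23 T)).comp MulAut.conjNormal
  obtain ⟨H, hH⟩ := index_of_hom φ P fun Q => by
    obtain ⟨t, ht⟩ := MulAction.exists_smul_eq T P Q
    refine ⟨t, ?_⟩
    rw [← ht]
    change (MulAut.conjNormal (t : G) : MulAut T) • P = MulAut.conj t • P
    congr 1
    ext x
    rw [MulAut.conjNormal_apply, MulAut.conj_apply]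
    rfl
  exact ⟨H, by rw [hH, h4]⟩

end Cfsg.Agent.H347.Rat
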