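import Cfsg.Agent.H347.Rat.Red
import Cfsg.Agent.H347.Rat.Index
/-!
The embedding into the direct product with a group of order `2`.
-/

set_option autoImplicit false

namespace Cfsg.Agent.H347.Rat

open Module

variable {V : Type*} [AddCommGroup V] [Module ℚ V] [FiniteDimensional ℚ V]
variable {G : Type*} [Group G] {σ : Representation ℚ G V}

/-- The sign of the determinant. -/
theorem exists_sign [Finite G] (σ : Representation ℚ G V) (hodd : Odd (finrank ℚ V)) :
    ∃ ε : G →* Multiplicative (ZMod 2), ∀ g, ε g = 1 → σ g = 1 ∨ σ g = -1 → σ g = 1 := by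
  classical
  let D : G →* ℚ := (LinearMap.det : (V →ₗ[ℚ] V) →* ℚ).comp σ
  have hD : ∀ g, D g = 1 ∨ D g = -1 := by
    intro g
    have h1 : D g ^ Nat.card G = 1 := by rw [← map_pow, pow_card_eq_one', map_one]
    have h2 : |D g| = 1 := by
      have : |D g| ^ Nat.card G = 1 := by rw [← abs_pow, h1, abs_one]
      exact (pow_eq_one_iff_of_nonneg (abs_nonneg _) Nat.card_pos.ne').1 this
    exact (abs_eq (zero_le_one' ℚ)).1 h2
  have hne : (-1 : ℚ) ≠ 1 := by norm_num
  have hof : (Multiplicative.ofAdd (1 : ZMod 2)) ≠ 1 := by decide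
  refine ⟨MonoidHom.mk' (fun g => if D g = 1 then 1 else Multiplicative.ofAdd 1) fun a b => ?_, fun g hg h => ?_⟩
  · rw [map_mul]
    rcases hD a with h1 | h1 <;> rcases hD b with h2 | h2 <;> simp only [h1, h2] <;> norm_num
    decide
  · rcases h with h | h
    · exact h
    · exfalso
      have h1 : D g = -1 := by
        change LinearMap.det (σ g) = -1
        have h3 : (-1 : V →ₗ[ℚ] V) = (-1 : ℚ) • (1 : V →ₗ[ℚ] V) := by simp
        rw [h, h3, LinearMap.det_smul, map_one, mul_one, hodd.neg_one_pow]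
      change (if D g = 1 then 1 else Multiplicative.ofAdd 1) = (1 : Multiplicative (ZMod 2)) at hg
      rw [h1, if_neg hne] at hg
      exact hof hg

/-- The embedding. -/
theorem exists_embedding [Finite G] (hinj : Function.Injective σ) (hodd : Odd (finrank ℚ V)) (T : Subgroup G)
    [T.Normal] (hcen : ∀ t : T, (∀ s : T, t * s = s * t) → t = 1)
    (hinn : ∀ α : T ≃* T, ∃ k : T, ∀ x, α x = k * x * k⁻¹)
    (hC : ∀ x : G, (∀ t ∈ T, x * t = t * x) → σ x = 1 ∨ σ x = -1) {S : Type*} [Group S] (e : T ≃* S) :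
    ∃ f : G →* Multiplicative (ZMod 2) × S, Function.Injective f := by
  obtain ⟨π, hπ, hπ'⟩ := exists_proj T hcen hinn
  obtain ⟨ε, hε⟩ := exists_sign σ hodd
  refine ⟨ε.prod (e.toMonoidHom.comp π), ?_⟩
  rw [injective_iff_map_eq_one]
  intro g hg
  have h1 : ε g = 1 := congrArg Prod.fst hg
  have h2 : e (π g) = 1 := congrArg Prod.snd hg
  have h3 : π g = 1 := e.injective (h2.trans (map_one e).symm)
  apply hinj
  rw [map_one]
  refine hε g h1 (hC g fun t ht => ?_)
  have h4 := hπ' g ⟨t, ht⟩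
  rw [h3] at h4
  simp only [one_mul, inv_one, mul_one] at h4
  exact mul_inv_eq_iff_eq_mul.1 h4

end Cfsg.Agent.H347.Rat
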