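import Cfsg.Agent.H347.Rat.Good
import Cfsg.Agent.OddHalf.D8.Fi23.Loc
/-!
`Fi₂₃` has no faithful rational character of degree `23`.
-/

set_option autoImplicit false

namespace Cfsg.Agent.H347.Rat

open Cfsg.Agent.OddHalf.D8.Fi23

/-- The elements of `A`. -/
noncomputable def codeSet {K : Type*} [Group K] {A : Subgroup K} {a : Fin 23 → K} [DecidableEq K] (C : Code A a) :
    Finset K :=
  ((Finset.range 4).biUnion fun k => Finset.powersetCard k (Finset.univ : Finset (Fin 23))).image C.pr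

theorem mem_codeSet {K : Type*} [Group K] {A : Subgroup K} {a : Fin 23 → K} [DecidableEq K] (C : Code A a) (x : K) :
    x ∈ codeSet C ↔ x ∈ A := by
  rw [codeSet, Finset.mem_image]
  constructor
  · rintro ⟨s, -, rfl⟩
    exact C.pr_mem s
  · intro hx
    obtain ⟨s, hs, rfl⟩ := C.surj hx
    refine ⟨s, ?_, rfl⟩
    rw [Finset.mem_biUnion]
    exact ⟨s.card, Finset.mem_range.2 (by omega), Finset.mem_powersetCard.2 ⟨Finset.subset_univ _, rfl⟩⟩

theorem sum_codeSet {K : Type*} [Group K] {A : Subgroup K} {a : Fin 23 → K} [DecidableEq K] (C : Code A a)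
    (g : K → ℤ) (v : ℕ → ℤ) (hv : ∀ s : Finset (Fin 23), s.card ≤ 3 → g (C.pr s) = v s.card) :
    ∑ x ∈ codeSet C, g x = v 0 + 23 * v 1 + 253 * v 2 + 1771 * v 3 := by
  rw [codeSet, Finset.sum_image]
  · rw [Finset.sum_biUnion]
    · have h : ∀ k ∈ Finset.range 4, ∑ s ∈ Finset.powersetCard k (Finset.univ : Finset (Fin 23)), g (C.pr s) =
          (Nat.choose 23 k) * v k := by
        intro k hk
        rw [Finset.sum_congr rfl (g := fun _ => v k) fun s hs => ?_]
        · rw [Finset.sum_const, Finset.card_powersetCard, Finset.card_univ, Fintype.card_fin, nsmul_eq_mul]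
        · have := (Finset.mem_powersetCard.1 hs).2
          rw [hv s (by rw [this]; have := Finset.mem_range.1 hk; omega), this]
      rw [Finset.sum_congr rfl h]
      simp only [Finset.sum_range_succ, Finset.sum_range_zero]
      norm_num [Nat.choose]
    · intro i _ j _ hij
      rw [Function.onFun, Finset.disjoint_left]
      intro s h1 h2
      rw [Finset.mem_powersetCard] at h1 h2
      exact hij (h1.2.symm.trans h2.2)
  · intro s hs t ht hst
    simp only [Finset.coe_biUnion, Finset.coe_range, Set.mem_Iio, Set.mem_iUnion, Finset.mem_coe,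
      Finset.mem_powersetCard] at hs ht
    obtain ⟨i, hi, -, hs⟩ := hs
    obtain ⟨j, hj, -, ht⟩ := ht
    exact C.inj (by omega) (by omega) hst

theorem arith' : ∀ x y z : Fin 24, (x.val + 11 * y.val + 77 * z.val) % 1024 = 0 →
    x.val + 11 * y.val + 77 * z.val ≤ 1024 →
    (x.val ^ 2 + 11 * y.val ^ 2 + 77 * z.val ^ 2) % 512 = 0 → x.val = 0 := by
  decide +kernel

theorem arith (x : ℕ) (hx : x < 24) (y : ℕ) (hy : y < 24) (z : ℕ) (hz : z < 24)
    (h1 : (x + 11 * y + 77 * z) % 1024 = 0) (h2 : x + 11 * y + 77 * z ≤ 1024)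
    (h3 : (x ^ 2 + 11 * y ^ 2 + 77 * z ^ 2) % 512 = 0) : x = 0 :=
  arith' ⟨x, hx⟩ ⟨y, hy⟩ ⟨z, hz⟩ h1 h2 h3

theorem not_sheet {K : Type*} [Group K] {A : Subgroup K} {S : Sylow 2 K} {a : Fin 23 → K} (h : Sheet K A S a)
    {f : K → ℤ} (hf : IGood K f) : False := by
  classical
  have C := h.code
  have h01 : (0 : Fin 23) ≠ 1 := by decide
  have h02 : (0 : Fin 23) ≠ 2 := by decide
  have h12 : (1 : Fin 23) ≠ 2 := by decide
  let v : ℕ → ℤ := fun k => match k with
    | 0 => 23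
    | 1 => f (a 0)
    | 2 => f (a 0 * a 1)
    | _ => f (a 0 * a 1 * a 2)
  have hv : ∀ s : Finset (Fin 23), s.card ≤ 3 → f (C.pr s) = v s.card := by
    intro s hs
    have : s.card = 0 ∨ s.card = 1 ∨ s.card = 2 ∨ s.card = 3 := by omega
    rcases this with h0 | h0 | h0 | h0
    · rw [h0, Finset.card_eq_zero.1 h0, C.pr_empty, hf.one]; rfl
    · rw [h0]
      obtain ⟨i, rfl⟩ := Finset.card_eq_one.1 h0
      obtain ⟨j, k, h1, h2, h3⟩ := exists_two i
      obtain ⟨n, -, hn, -, -⟩ := h.three 0 1 2 i j k h01 h02 h12 h1 h2 h3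
      rw [C.pr_singleton, ← hn, hf.cnj]; rfl
    · rw [h0]
      obtain ⟨i, j, h1, rfl⟩ := Finset.card_eq_two.1 h0
      obtain ⟨k, h2, h3⟩ := exists_third i j
      obtain ⟨n, -, hn, hn', -⟩ := h.three 0 1 2 i j k h01 h02 h12 h1 h2 h3
      rw [C.pr_pair h1, ← hn, ← hn', conj_mul, hf.cnj]; rfl
    · rw [h0]
      obtain ⟨i, j, k, h1, h2, h3, rfl⟩ := Finset.card_eq_three.1 h0
      obtain ⟨n, -, hn, hn', hn''⟩ := h.three 0 1 2 i j k h01 h02 h12 h1 h2 h3
      rw [C.pr_triple h1 h2 h3, ← hn, ← hn', ← hn'', conj_mul, conj_mul, hf.cnj]; rfl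
  have hcard : (codeSet C).card = 2048 := by
    have := sum_codeSet C (fun _ => 1) (fun _ => 1) fun _ _ => rfl
    simp only [Finset.sum_const, nsmul_eq_mul, mul_one] at this
    exact_mod_cast this
  obtain ⟨m, hm⟩ := hf.sum A (codeSet C) (mem_codeSet C)
  obtain ⟨m', hm'⟩ := hf.sum_sq A (codeSet C) (mem_codeSet C)
  rw [hcard, sum_codeSet C f v hv] at hm
  rw [hcard, sum_codeSet C (fun x => f x ^ 2) (fun k => v k ^ 2) fun s hs => by rw [hv s hs]] at hm'
  have hsq : ∀ x ∈ A, ∃ e : ℕ, f x = 23 - 2 * e ∧ e ≤ 23 := by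
    intro x hx
    obtain ⟨e, h1, h2⟩ := hf.prime_pow 2 1 x Nat.prime_two (by rw [pow_one, pow_two, h.sq x hx])
    exact ⟨e, by exact_mod_cast h1, by omega⟩
  obtain ⟨x, hx, hx'⟩ := hsq (a 0) (h.mem 0)
  obtain ⟨y, hy, hy'⟩ := hsq (a 0 * a 1) (A.mul_mem (h.mem 0) (h.mem 1))
  obtain ⟨z, hz, hz'⟩ := hsq (a 0 * a 1 * a 2) (A.mul_mem (A.mul_mem (h.mem 0) (h.mem 1)) (h.mem 2))
  have hx0 : x ≠ 0 := by
    rintro rfl
    exact C.a_ne_one 0 (hf.faithful _ (by simpa using hx))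
  have e0 : v 0 = 23 := rfl
  have e1 : v 1 = 23 - 2 * x := hx
  have e2 : v 2 = 23 - 2 * y := hy
  have e3 : v 3 = 23 - 2 * z := hz
  rw [e0, e1, e2, e3] at hm hm'
  push_cast at hm hm'
  apply hx0
  have h1 : (23 * (x + 11 * y + 77 * z) : ℤ) = 1024 * (23 - m) := by linarith
  have h2 : (x + 11 * y + 77 * z) % 1024 = 0 := by omega
  have h3 : x + 11 * y + 77 * z ≤ 1024 := by omega
  refine arith x (by omega) y (by omega) z (by omega) h2 h3 ?_
  obtain ⟨k, hk⟩ : ∃ k : ℕ, x + 11 * y + 77 * z = 1024 * k := ⟨_, (Nat.mul_div_cancel' (Nat.dvd_of_mod_eq_zero h2)).symm⟩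
  have hk' : (x + 11 * y + 77 * z : ℤ) = 1024 * k := by exact_mod_cast hk
  have h4 : (23 * (x ^ 2 + 11 * y ^ 2 + 77 * z ^ 2) : ℤ) = 512 * (m' - 529 + 23 * 23 * 2 * k) := by
    linarith [hm', hk']
  have h5 : (23 * (x ^ 2 + 11 * y ^ 2 + 77 * z ^ 2)) % 512 = 0 := by
    zify
    rw [h4]
    exact Int.mul_emod_right _ _
  omega

end Cfsg.Agent.H347.Rat
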