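import Cfsg.Agent.H347.Rat.Char
/-!
Faithful irreducible rational-valued characters of degree 23: degree and order.
-/

set_option autoImplicit false

namespace Cfsg.Agent.H347.Rat

open Module Cfsg Cfsg.Agent.Characters Cfsg.Agent.Lib
open scoped ComplexConjugate

/-- A faithful irreducible rational-valued character of degree `23`. -/
structure Good (T : Type*) [Group T] (χ : T → ℂ) : Prop where
  irr : IsIrrCharacter T χ
  faithful : ∀ g, χ g = χ 1 → g = 1
  rat : ∀ g, ∃ q : ℚ, χ g = q
  deg : χ 1 = (23 : ℕ)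

theorem Good.char {T : Type*} [Group T] {χ : T → ℂ} (h : Good T χ) : IsCharacter T χ :=
  Core.isIrr_isCharacter h.irr

theorem Good.comp {S T : Type*} [Group S] [Group T] {χ : T → ℂ} (h : Good T χ) (e : S ≃* T) :
    Good S (fun s => χ (e s)) where
  irr := Core.isIrr_comp e.toMonoidHom e.surjective h.irr
  faithful g hg := by
    have h1 : χ (e g) = χ (e 1) := hg
    rw [map_one] at h1
    have := h.faithful _ h1
    exact e.injective (this.trans (map_one e).symm)
  rat g := h.rat _
  deg := by rw [map_one, h.deg]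

theorem Good.dvd_card {T : Type*} [Group T] [Finite T] {χ : T → ℂ} (h : Good T χ) : 23 ∣ Nat.card T := by
  have hd := h.deg
  obtain ⟨n, ρ, hρ, rfl⟩ := h.irr
  have h1 := Cfsg.Agent.S0135.result ρ
  rw [Representation.char_one] at hd
  have h2 : finrank ℂ (Fin n → ℂ) = 23 := by exact_mod_cast hd
  rwa [h2] at h1

/-- The bound for the order. -/
def N0 : ℕ := 2 ^ 42 * 3 ^ 15 * 5 ^ 6 * 7 ^ 3 * 11 ^ 2 * 13 * 17 * 19 * 23

theorem Good.card_dvd {T : Type*} [Group T] [Finite T] {χ : T → ℂ} (h : Good T χ) : Nat.card T ∣ N0 := by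
  rw [Nat.dvd_iff_prime_pow_dvd_dvd]
  intro p k hp hk
  obtain ⟨P, hP⟩ := @Sylow.exists_subgroup_card_pow_prime T _ _ p k ⟨hp⟩ hk
  have h1 := SchurRational.schur_rational hp h.char h.faithful h.rat h.deg P (IsPGroup.of_card hP)
  rw [hP] at h1
  have key : ∀ e m : ℕ, p ^ (23 / (p - 1)) * (23 / (p - 1)).factorial = p ^ e * m → p.Coprime m →
      p ^ e ∣ N0 → p ^ k ∣ N0 := by
    intro e m he hm hN
    rw [he] at h1
    exact (Nat.Coprime.dvd_of_dvd_mul_right (Nat.Coprime.pow_left k hm) h1).trans hN
  rcases Nat.lt_or_ge 24 p with h2 | h2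
  · have h3 : 23 / (p - 1) = 0 := Nat.div_eq_of_lt (by omega)
    rw [h3, pow_zero, Nat.factorial_zero, mul_one] at h1
    exact h1.trans (one_dvd _)
  · interval_cases p
    · exact absurd hp (by norm_num)
    · exact absurd hp (by norm_num)
    · exact key 42 49308808782358125 (by norm_num [Nat.factorial]) (by norm_num) (by norm_num [N0])
    · exact key 15 492800 (by norm_num [Nat.factorial]) (by norm_num) (by norm_num [N0])
    · exact absurd hp (by norm_num)
    · exact key 6 24 (by norm_num [Nat.factorial]) (by norm_num) (by norm_num [N0])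
    · exact absurd hp (by norm_num)
    · exact key 3 6 (by norm_num [Nat.factorial]) (by norm_num) (by norm_num [N0])
    · exact absurd hp (by norm_num)
    · exact absurd hp (by norm_num)
    · exact absurd hp (by norm_num)
    · exact key 2 2 (by norm_num [Nat.factorial]) (by norm_num) (by norm_num [N0])
    · exact absurd hp (by norm_num)
    · exact key 1 1 (by norm_num [Nat.factorial]) (by norm_num) (by norm_num [N0])
    · exact absurd hp (by norm_num)
    · exact absurd hp (by norm_num)
    · exact absurd hp (by norm_num)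
    · exact key 1 1 (by norm_num [Nat.factorial]) (by norm_num) (by norm_num [N0])
    · exact absurd hp (by norm_num)
    · exact key 1 1 (by norm_num [Nat.factorial]) (by norm_num) (by norm_num [N0])
    · exact absurd hp (by norm_num)
    · exact absurd hp (by norm_num)
    · exact absurd hp (by norm_num)
    · exact key 1 1 (by norm_num [Nat.factorial]) (by norm_num) (by norm_num [N0])
    · exact absurd hp (by norm_num)

/-- The elementary properties of an integer-valued faithful character of degree `23`. -/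
structure IGood (T : Type*) [Group T] (f : T → ℤ) : Prop where
  dvd : 23 ∣ Nat.card T
  card : Nat.card T ∣ N0
  one : f 1 = 23
  faithful : ∀ g, f g = 23 → g = 1
  le : ∀ g, |f g| ≤ 23
  cnj : ∀ g x, f (g * x * g⁻¹) = f x
  sum : ∀ (E : Subgroup T) (S : Finset T), (∀ x, x ∈ S ↔ x ∈ E) → ∃ m : ℕ, ∑ x ∈ S, f x = S.card * m
  sum_sq : ∀ (E : Subgroup T) (S : Finset T), (∀ x, x ∈ S ↔ x ∈ E) → ∃ m : ℕ, ∑ x ∈ S, f x ^ 2 = S.card * m
  prime_pow : ∀ (p k : ℕ) (x : T), p.Prime → x ^ p ^ k = 1 → ∃ e : ℕ, f x = 23 - p * e ∧ (p - 1) * e ≤ 23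

theorem IGood.comp {S T : Type*} [Group S] [Group T] {f : T → ℤ} (h : IGood T f) (e : S ≃* T) :
    IGood S (fun s => f (e s)) where
  dvd := by rw [Nat.card_congr e.toEquiv]; exact h.dvd
  card := by rw [Nat.card_congr e.toEquiv]; exact h.card
  one := by rw [map_one, h.one]
  faithful g hg := e.injective ((h.faithful _ hg).trans (map_one e).symm)
  le g := h.le _
  cnj g x := by simp only [map_mul, map_inv]; exact h.cnj _ _
  sum E S hS := by
    obtain ⟨m, hm⟩ := h.sum (E.map e.toMonoidHom) (S.map e.toEquiv.toEmbedding) fun x => by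
      simp only [Finset.mem_map, Subgroup.mem_map, hS]
      rfl
    refine ⟨m, ?_⟩
    rw [Finset.sum_map, Finset.card_map] at hm
    exact hm
  sum_sq E S hS := by
    obtain ⟨m, hm⟩ := h.sum_sq (E.map e.toMonoidHom) (S.map e.toEquiv.toEmbedding) fun x => by
      simp only [Finset.mem_map, Subgroup.mem_map, hS]
      rfl
    refine ⟨m, ?_⟩
    rw [Finset.sum_map, Finset.card_map] at hm
    exact hm
  prime_pow p k x hp hx := h.prime_pow p k _ hp (by rw [← map_pow, hx, map_one])

theorem Good.exists_int {T : Type*} [Group T] [Finite T] {χ : T → ℂ} (h : Good T χ) :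
    ∃ f : T → ℤ, IGood T f := by
  classical
  have : Fintype T := Fintype.ofFinite T
  choose f hf using fun g => GaloisBasic.exists_int_of_rat h.char g (h.rat g)
  have h1 : f 1 = 23 := by
    have := hf 1
    rw [h.deg] at this
    exact_mod_cast this.symm
  have hsum : ∀ (E : Subgroup T) (S : Finset T), (∀ x, x ∈ S ↔ x ∈ E) →
      ∀ u : T → ℤ, IsCharacter E (fun x : E => (u x : ℂ)) → ∃ m : ℕ, ∑ x ∈ S, u x = S.card * m := by
    intro E S hS u hu
    obtain ⟨m, hm⟩ := Core.classInner_isNat hu Core.isCharacter_one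
    rw [Core.classInner_def] at hm
    refine ⟨m, ?_⟩
    have hc : S.card = Nat.card E := by
      rw [← Fintype.card_coe, ← Nat.card_eq_fintype_card]
      exact Nat.card_congr (Equiv.subtypeEquivRight hS)
    have hs : ∑ x ∈ S, u x = ∑ x : E, u x := by
      refine Finset.sum_bij' (fun x hx => (⟨x, (hS x).1 hx⟩ : E)) (fun x _ => (x : T)) ?_ ?_ ?_ ?_ ?_
      · intro a _; exact Finset.mem_univ _
      · intro a _; exact (hS _).2 a.2
      · intro a _; rfl
      · intro a _; rfl
      · intro a _; rfl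
    have h0 : (Nat.card E : ℂ) ≠ 0 := Nat.cast_ne_zero.2 Nat.card_pos.ne'
    rw [inv_mul_eq_iff_eq_mul₀ h0] at hm
    rw [hc, hs]
    have h2 : ((∑ x : E, u x : ℤ) : ℂ) = ((Nat.card E : ℤ) * m : ℤ) := by
      push_cast
      rw [← hm]
      refine Finset.sum_congr rfl fun x _ => ?_
      simp
    exact_mod_cast h2
  have hres : ∀ E : Subgroup T, IsCharacter E (fun x : E => (f x : ℂ)) := by
    intro E
    have := Brauer.isCharacter_restrict h.char E
    convert this using 2
    exact (hf _).symm
  refine ⟨f, h.dvd_card, h.card_dvd, h1, ?_, ?_, ?_, ?_, ?_, ?_⟩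
  · intro g hg
    apply h.faithful
    rw [hf, hf, hg, h1]
  · intro g
    obtain ⟨n, ρ, hρ⟩ := h.char
    have h2 := Values.norm_character_le ρ g
    have h3 := Representation.char_one ρ
    rw [hρ] at h2 h3
    rw [h.deg] at h3
    have h4 : finrank ℂ (Fin n → ℂ) = 23 := by exact_mod_cast h3.symm
    rw [h4, hf, Complex.norm_intCast] at h2
    exact_mod_cast h2
  · intro g x
    have h2 := Core.isCharacter_isClassFunction h.char x g
    rw [hf, hf] at h2
    exact_mod_cast h2
  · intro E S hS
    exact hsum E S hS f (hres E)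
  · intro E S hS
    refine hsum E S hS (fun x => f x ^ 2) ?_
    have := Core.isCharacter_mul (hres E) (hres E)
    convert this using 2
    simp [pow_two]
  · intro p k x hp hx
    by_cases hx1 : x = 1
    · exact ⟨0, by rw [hx1, h1]; simp, by simp⟩
    have : Fact p.Prime := ⟨hp⟩
    have hP : IsPGroup p (Subgroup.zpowers x) := by
      rw [IsPGroup.iff_card]
      rw [Nat.card_zpowers]
      obtain ⟨j, -, hj⟩ := (Nat.dvd_prime_pow hp).1 (orderOf_dvd_of_pow_eq_one hx)
      exact ⟨j, hj⟩
    obtain ⟨e, he1, he2⟩ := SchurRational.value_of_pGroup hp hP (Brauer.isCharacter_restrict h.char _)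
      (x := ⟨x, Subgroup.mem_zpowers x⟩) (fun h => hx1 (congrArg Subtype.val h)) (h.rat x) (n := 23) h.deg
    refine ⟨e, ?_, he2⟩
    have he3 : χ x = (23 : ℕ) - (p : ℂ) * e := he1
    rw [hf] at he3
    exact_mod_cast he3

/-- A subgroup of order at least `25` has two non-identity elements with different values. -/
theorem IGood.pure {T : Type*} [Group T] {f : T → ℤ} (h : IGood T f) (E : Subgroup T) (S : Finset T)
    (hS : ∀ x, x ∈ S ↔ x ∈ E) (hE : 25 ≤ S.card) (hE' : ∃ v, ∀ x ∈ E, x ≠ 1 → f x = v) : False := by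
  classical
  obtain ⟨v, hv⟩ := hE'
  obtain ⟨m, hm⟩ := h.sum E S hS
  have h1 : (1 : T) ∈ S := (hS 1).2 E.one_mem
  rw [← Finset.add_sum_erase S f h1, h.one, Finset.sum_congr rfl (g := fun _ => v) fun x hx => ?_,
    Finset.sum_const, Finset.card_erase_of_mem h1] at hm
  · obtain ⟨y, hy, hy1⟩ : ∃ y ∈ S, y ≠ 1 := by
      by_contra hno
      push Not at hno
      have : S.card ≤ 1 := Finset.card_le_one.2 fun a ha b hb => (hno a ha).trans (hno b hb).symm
      omega
    have hvy := hv y ((hS y).1 hy) hy1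
    have h2 : v ≠ 23 := fun h3 => hy1 (h.faithful y (hvy.trans h3))
    have h3 : |v| ≤ 23 := hvy ▸ h.le y
    rw [abs_le] at h3
    rw [nsmul_eq_mul, Nat.cast_sub (by omega)] at hm
    push_cast at hm
    have hn : (25 : ℤ) ≤ S.card := by exact_mod_cast hE
    have hm0 : (0 : ℤ) ≤ m := Int.natCast_nonneg m
    generalize (S.card : ℤ) = n at hm hn
    generalize (m : ℤ) = c at hm hm0
    -- `(n - 1) (v - c) = c - 23`
    have h4 : (n - 1) * (v - c) = c - 23 := by linarith
    rcases lt_trichotomy (v - c) 0 with h5 | h5 | h5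
    · nlinarith
    · rw [h5] at h4; omega
    · nlinarith
  · obtain ⟨hx1, hx⟩ := Finset.mem_erase.1 hx
    exact hv x ((hS x).1 hx) hx1

end Cfsg.Agent.H347.Rat
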