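import Mathlib
/-!
Rational representations of odd prime degree: elementary linear algebra.

* `exists_fixed_or_neg`: an endomorphism of finite order of an odd-dimensional rational space has an eigenvalue `1` or `-1`;
* `scalar_of_comm`: a group element commuting with an irreducible family is `±1`;
* `clifford`: a normal subgroup of an irreducible group of prime degree is irreducible or has an eigenline.
-/

set_option autoImplicit false

namespace Cfsg.Agent.H347.Rat

open Module

/-- A real monic polynomial of odd degree has a root. -/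
theorem exists_root_of_odd (p : Polynomial ℝ) (hp : p.Monic) (hodd : Odd p.natDegree) :
    ∃ r : ℝ, p.IsRoot r := by
  have hd : 0 < p.degree := by
    rw [← Polynomial.natDegree_pos_iff_degree_pos]; exact hodd.pos
  have h1 : Filter.Tendsto (fun x => p.eval x) Filter.atTop Filter.atTop :=
    p.tendsto_atTop_of_leadingCoeff_nonneg hd (by rw [hp.leadingCoeff]; norm_num)
  have h2 : Filter.Tendsto (fun x => (-(p.comp (-Polynomial.X))).eval x) Filter.atTop Filter.atTop := by
    have hc : (-(p.comp (-Polynomial.X))).leadingCoeff = 1 := by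
      rw [Polynomial.leadingCoeff_neg, Polynomial.leadingCoeff_comp (by simp), hp.leadingCoeff]
      simp [hodd.neg_one_pow]
    apply Polynomial.tendsto_atTop_of_leadingCoeff_nonneg
    · rw [Polynomial.degree_neg, ← Polynomial.natDegree_pos_iff_degree_pos, Polynomial.natDegree_comp]
      simp [hodd.pos]
    · rw [hc]; norm_num
  obtain ⟨b, hb⟩ := (h1.eventually_ge_atTop 0).exists
  obtain ⟨a, ha⟩ := (h2.eventually_ge_atTop 0).exists
  have ha' : p.eval (-a) ≤ 0 := by
    have : (-(p.comp (-Polynomial.X))).eval a = - p.eval (-a) := by simp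
    linarith [this ▸ ha]
  obtain ⟨r, hr⟩ := mem_range_of_exists_le_of_exists_ge p.continuous ⟨-a, ha'⟩ ⟨b, hb⟩
  exact ⟨r, hr⟩

variable {V : Type*} [AddCommGroup V] [Module ℚ V] [FiniteDimensional ℚ V]

/-- An endomorphism of finite order of an odd-dimensional rational space has an eigenvalue `±1`. -/
theorem exists_fixed_or_neg (hV : Odd (finrank ℚ V)) (f : End ℚ V) {n : ℕ} (hn : 0 < n)
    (hf : f ^ n = 1) : (∃ v : V, v ≠ 0 ∧ f v = v) ∨ ∃ v : V, v ≠ 0 ∧ f v = -v := by
  have hmon : (f.charpoly.map (algebraMap ℚ ℝ)).Monic := (LinearMap.charpoly_monic f).map _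
  obtain ⟨r, hr⟩ := exists_root_of_odd _ hmon (by
    rw [(LinearMap.charpoly_monic f).natDegree_map, LinearMap.charpoly_natDegree]; exact hV)
  rw [← LinearMap.charpoly_baseChange, ← Module.End.hasEigenvalue_iff_isRoot_charpoly] at hr
  obtain ⟨u, hu⟩ := hr.exists_hasEigenvector
  have hfb : (LinearMap.baseChange ℝ f) ^ n = 1 := by
    rw [← LinearMap.baseChange_pow, hf]
    exact LinearMap.baseChange_id
  have h1 : r ^ n = 1 := by
    have h2 := hu.pow_apply n
    rw [hfb, Module.End.one_apply] at h2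
    exact smul_left_injective ℝ hu.2 (by simpa using h2.symm)
  have h2 : r = 1 ∨ r = -1 := by
    have h3 : |r| = 1 := by
      have : |r| ^ n = 1 := by rw [← abs_pow, h1, abs_one]
      exact (pow_eq_one_iff_of_nonneg (abs_nonneg r) hn.ne').1 this
    rcases abs_eq (zero_le_one' ℝ) |>.1 h3 with h | h
    · exact Or.inl h
    · exact Or.inr h
  have key : ∀ q : ℚ, (algebraMap ℚ ℝ q) = r → ∃ v : V, v ≠ 0 ∧ f v = q • v := by
    intro q hq
    have h3 : f.charpoly.IsRoot q := by
      have h4 : (f.charpoly.map (algebraMap ℚ ℝ)).IsRoot (algebraMap ℚ ℝ q) := by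
        rw [← LinearMap.charpoly_baseChange, ← Module.End.hasEigenvalue_iff_isRoot_charpoly, hq]
        exact Module.End.hasEigenvalue_of_hasEigenvector hu
      rw [Polynomial.IsRoot, Polynomial.eval_map_algebraMap, Polynomial.aeval_algebraMap_apply] at h4
      simpa using h4
    rw [← Module.End.hasEigenvalue_iff_isRoot_charpoly] at h3
    obtain ⟨v, hv⟩ := h3.exists_hasEigenvector
    exact ⟨v, hv.2, hv.apply_eq_smul⟩
  rcases h2 with h2 | h2
  · obtain ⟨v, hv, hv'⟩ := key 1 (by rw [h2]; simp)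
    exact Or.inl ⟨v, hv, by rw [hv', one_smul]⟩
  · obtain ⟨v, hv, hv'⟩ := key (-1) (by rw [h2]; simp)
    exact Or.inr ⟨v, hv, by rw [hv', neg_smul, one_smul]⟩

section Rep

variable {G : Type*} [Group G] (σ : Representation ℚ G V)

/-- `K` leaves only the trivial subspaces invariant. -/
def IrrOn (K : Subgroup G) : Prop :=
  ∀ W : Submodule ℚ V, (∀ k ∈ K, ∀ w ∈ W, σ k w ∈ W) → W = ⊥ ∨ W = ⊤

omit [FiniteDimensional ℚ V] in
theorem inv_apply_self (g : G) (v : V) : σ g⁻¹ (σ g v) = v := by
  rw [← Module.End.mul_apply, ← map_mul, inv_mul_cancel, map_one, Module.End.one_apply]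

omit [FiniteDimensional ℚ V] in
theorem apply_inv_self (g : G) (v : V) : σ g (σ g⁻¹ v) = v := by
  rw [← Module.End.mul_apply, ← map_mul, mul_inv_cancel, map_one, Module.End.one_apply]

omit [FiniteDimensional ℚ V] in
theorem injective_apply (g : G) : Function.Injective (σ g) :=
  Function.LeftInverse.injective (inv_apply_self σ g)

variable {σ}

/-- An element commuting with an irreducible subgroup is `±1` (odd dimension). -/
theorem scalar_of_comm [Finite G] (hV : Odd (finrank ℚ V)) {K : Subgroup G} (hK : IrrOn σ K) {x : G}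
    (hx : ∀ k ∈ K, x * k = k * x) : σ x = 1 ∨ σ x = -1 := by
  have hfin : σ x ^ Nat.card G = 1 := by
    rw [← map_pow, pow_card_eq_one', map_one]
  have hc : ∀ k ∈ K, ∀ v, σ x (σ k v) = σ k (σ x v) := by
    intro k hk v
    rw [← Module.End.mul_apply, ← Module.End.mul_apply, ← map_mul, ← map_mul, hx k hk]
  rcases exists_fixed_or_neg hV (σ x) Nat.card_pos hfin with ⟨v, hv, hv'⟩ | ⟨v, hv, hv'⟩
  · left
    let W : Submodule ℚ V := LinearMap.ker (σ x - 1)
    have hW : ∀ w, w ∈ W ↔ σ x w = w := by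
      intro w
      rw [LinearMap.mem_ker, LinearMap.sub_apply, Module.End.one_apply, sub_eq_zero]
    have h1 : W = ⊤ := (hK W (fun k hk w hw => by
      rw [hW] at hw ⊢
      rw [hc k hk, hw])).resolve_left fun h => by
        have : v ∈ W := (hW v).2 hv'
        rw [h, Submodule.mem_bot] at this
        exact hv this
    ext w
    have : w ∈ W := h1 ▸ Submodule.mem_top
    rw [(hW w).1 this, Module.End.one_apply]
  · right
    let W : Submodule ℚ V := LinearMap.ker (σ x + 1)
    have hW : ∀ w, w ∈ W ↔ σ x w = -w := by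
      intro w
      rw [LinearMap.mem_ker, LinearMap.add_apply, Module.End.one_apply, add_eq_zero_iff_eq_neg]
    have h1 : W = ⊤ := (hK W (fun k hk w hw => by
      rw [hW] at hw ⊢
      rw [hc k hk, hw, map_neg])).resolve_left fun h => by
        have : v ∈ W := (hW v).2 hv'
        rw [h, Submodule.mem_bot] at this
        exact hv this
    ext w
    have : w ∈ W := h1 ▸ Submodule.mem_top
    rw [(hW w).1 this]
    simp

/-- **Clifford's theorem** in prime degree: a normal subgroup `N` of the irreducible `K` is irreducible, or it has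
an eigenline. -/
theorem clifford [Finite G] (hV : (finrank ℚ V).Prime) {K N : Subgroup G}
    (hn : ∀ k ∈ K, ∀ n ∈ N, k * n * k⁻¹ ∈ N) (hK : IrrOn σ K) :
    IrrOn σ N ∨ ∃ w : V, w ≠ 0 ∧ ∀ n ∈ N, σ n w = w ∨ σ n w = -w := by
  classical
  have : Nontrivial V := Module.nontrivial_of_finrank_pos (R := ℚ) hV.pos
  -- a minimal invariant subspace
  let P : ℕ → Prop := fun d => ∃ W : Submodule ℚ V, W ≠ ⊥ ∧ (∀ n ∈ N, ∀ w ∈ W, σ n w ∈ W) ∧ finrank ℚ W = d
  have hP : ∃ d, P d := ⟨_, ⊤, bot_ne_top.symm, fun _ _ _ _ => Submodule.mem_top, rfl⟩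
  obtain ⟨W, hW0, hWN, hWd⟩ := Nat.find_spec hP
  have hmin : ∀ W' : Submodule ℚ V, W' ≠ ⊥ → (∀ n ∈ N, ∀ w ∈ W', σ n w ∈ W') →
      finrank ℚ W ≤ finrank ℚ W' := by
    intro W' h1 h2
    rw [hWd]
    exact Nat.find_min' hP ⟨W', h1, h2, rfl⟩
  have hminW : ∀ W' : Submodule ℚ V, W' ≤ W → (∀ n ∈ N, ∀ w ∈ W', σ n w ∈ W') → W' = ⊥ ∨ W' = W := by
    intro W' h1 h2
    by_cases h3 : W' = ⊥
    · exact Or.inl h3
    · exact Or.inr (Submodule.eq_of_le_of_finrank_le h1 (hmin W' h3 h2))
  -- divisibility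
  have hdvd : finrank ℚ W ∣ finrank ℚ V := by
    let Q : Submodule ℚ V → Prop := fun U => (∀ n ∈ N, ∀ w ∈ U, σ n w ∈ U) ∧ finrank ℚ W ∣ finrank ℚ U
    have hQ : ∃ m, ∃ U : Submodule ℚ V, Q U ∧ finrank ℚ V - finrank ℚ U = m :=
      ⟨_, ⊥, ⟨fun n _ w hw => by rw [Submodule.mem_bot] at hw ⊢; rw [hw, map_zero], by simp⟩, rfl⟩
    obtain ⟨U, ⟨hUN, hUd⟩, hUm⟩ := Nat.find_spec hQ
    by_cases hUt : U = ⊤
    · rw [hUt, finrank_top] at hUd
      exact hUd
    exfalso
    obtain ⟨k, hkK, hk⟩ : ∃ k ∈ K, ¬ W.map (σ k) ≤ U := by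
      by_contra hno
      push Not at hno
      let Z : Submodule ℚ V := ⨆ k : K, W.map (σ (k : G))
      have hZU : Z ≤ U := iSup_le fun k => hno k k.2
      have hZK : ∀ k ∈ K, Z.map (σ k) ≤ Z := by
        intro k hk
        rw [Submodule.map_iSup]
        refine iSup_le fun l => ?_
        refine le_trans ?_ (le_iSup (fun k : K => W.map (σ (k : G))) (⟨k, hk⟩ * l))
        rw [← Submodule.map_comp]
        apply le_of_eq
        congr 1
        change σ k * σ l = σ (k * l)
        rw [map_mul]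
      rcases hK Z (fun k hk w hw => hZK k hk (Submodule.mem_map_of_mem hw)) with h | h
      · apply hW0
        have h1 : W.map (σ (1 : G)) ≤ Z := le_iSup (fun k : K => W.map (σ (k : G))) 1
        rw [h, le_bot_iff, map_one] at h1
        rw [← h1]
        exact (Submodule.map_id W).symm
      · exact hUt (top_le_iff.1 (h ▸ hZU))
    have h1 : ∀ w ∈ W, σ k w ∈ U → w = 0 := by
      let W' : Submodule ℚ V := W ⊓ U.comap (σ k)
      have h2 : W' = ⊥ := by
        refine (hminW W' inf_le_left ?_).resolve_right fun h => hk ?_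
        · rintro n hn' w ⟨hw1, hw2⟩
          refine ⟨hWN n hn' w hw1, ?_⟩
          change σ k (σ n w) ∈ U
          have e : σ k (σ n w) = σ (k * n * k⁻¹) (σ k w) := by
            rw [← Module.End.mul_apply, ← Module.End.mul_apply, ← map_mul, ← map_mul,
              inv_mul_cancel_right]
          rw [e]
          exact hUN _ (hn k hkK n hn') _ hw2
        · rw [Submodule.map_le_iff_le_comap]
          exact (le_of_eq h.symm).trans inf_le_right
      intro w hw hw'
      have : w ∈ W' := ⟨hw, hw'⟩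
      rwa [h2, Submodule.mem_bot] at this
    have hdisj : U ⊓ W.map (σ k) = ⊥ := by
      rw [Submodule.eq_bot_iff]
      rintro _ ⟨hu, w, hw, rfl⟩
      rw [h1 w hw hu, map_zero]
    have hfr : finrank ℚ (W.map (σ k)) = finrank ℚ W :=
      (Submodule.equivMapOfInjective (σ k) (injective_apply σ k) W).finrank_eq.symm
    have hsum := Submodule.finrank_sup_add_finrank_inf_eq U (W.map (σ k))
    rw [hdisj, finrank_bot, add_zero, hfr] at hsum
    have hQ' : Q (U ⊔ W.map (σ k)) := by
      refine ⟨?_, by rw [hsum]; exact dvd_add hUd dvd_rfl⟩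
      intro n hn' w hw
      obtain ⟨u, hu, w', hw', rfl⟩ := Submodule.mem_sup.1 hw
      obtain ⟨w, hw2, rfl⟩ := hw'
      rw [map_add]
      refine Submodule.add_mem_sup (hUN n hn' u hu) ?_
      refine ⟨σ (k⁻¹ * n * k) w, hWN _ ?_ w hw2, ?_⟩
      · have := hn k⁻¹ (K.inv_mem hkK) n hn'
        rwa [inv_inv] at this
      · rw [← Module.End.mul_apply, ← Module.End.mul_apply, ← map_mul, ← map_mul]
        congr 2
        group
    have h2 := Nat.find_min' hQ ⟨_, hQ', rfl⟩
    have h3 : 0 < finrank ℚ W := Nat.pos_of_ne_zero fun h => hW0 (Submodule.finrank_eq_zero.1 h)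
    have h4 := Submodule.finrank_le (U ⊔ W.map (σ k))
    omega
  rcases (Nat.dvd_prime hV).1 hdvd with h1 | h1
  · right
    obtain ⟨w, hw, hw'⟩ := finrank_eq_one_iff'.1 h1
    refine ⟨w, fun h => hw (Subtype.ext h), fun n hn' => ?_⟩
    obtain ⟨c, hc⟩ := hw' ⟨σ n w, hWN n hn' w w.2⟩
    have hc' : σ n w = c • (w : V) := (congrArg Subtype.val hc).symm
    have hpow : ∀ m : ℕ, σ (n ^ m) w = c ^ m • (w : V) := by
      intro m
      induction m with
      | zero => simp
      | succ m ih => rw [pow_succ, map_mul, Module.End.mul_apply, hc', map_smul, ih, smul_smul, pow_succ, mul_comm]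
    have h2 : c ^ Nat.card G = 1 := by
      have h3 := hpow (Nat.card G)
      rw [pow_card_eq_one', map_one, Module.End.one_apply] at h3
      have h4 : (w : V) ≠ 0 := fun h => hw (Subtype.ext h)
      exact smul_left_injective ℚ h4 (by simpa using h3.symm)
    have h3 : |c| = 1 := by
      have : |c| ^ Nat.card G = 1 := by rw [← abs_pow, h2, abs_one]
      exact (pow_eq_one_iff_of_nonneg (abs_nonneg c) Nat.card_pos.ne').1 this
    rcases (abs_eq (zero_le_one' ℚ)).1 h3 with h | h
    · left; rw [hc', h, one_smul]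
    · right; rw [hc', h, neg_smul, one_smul]
  · left
    intro U hU
    by_cases h2 : U = ⊥
    · exact Or.inl h2
    · right
      apply Submodule.eq_top_of_finrank_eq
      refine le_antisymm (Submodule.finrank_le U) ?_
      rw [← h1]
      exact hmin U h2 hU

omit [FiniteDimensional ℚ V] in
/-- In the eigenline case all elements of `N` commute on `V` and have square one. -/
theorem span_lines {K N : Subgroup G} (hn : ∀ k ∈ K, ∀ n ∈ N, k * n * k⁻¹ ∈ N) (hK : IrrOn σ K)
    {w : V} (hw : w ≠ 0) (hwN : ∀ n ∈ N, σ n w = w ∨ σ n w = -w) :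
    Submodule.span ℚ {v : V | (∀ n ∈ N, σ n v = v ∨ σ n v = -v)} = ⊤ := by
  refine (hK _ fun k hk v hv => ?_).resolve_left fun h => ?_
  · refine Submodule.span_induction (p := fun v _ => σ k v ∈ _) ?_ ?_ ?_ ?_ hv
    · intro v hv
      refine Submodule.subset_span fun n hnN => ?_
      have h1 := hn k⁻¹ (K.inv_mem hk) n hnN
      have e : σ n (σ k v) = σ k (σ (k⁻¹ * n * k⁻¹⁻¹) v) := by
        rw [← Module.End.mul_apply, ← Module.End.mul_apply, ← map_mul, ← map_mul]
        congr 2
        group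
      rw [e]
      rcases hv _ h1 with h2 | h2
      · left; rw [h2]
      · right; rw [h2, map_neg]
    · rw [map_zero]; exact Submodule.zero_mem _
    · intro x y _ _ hx hy
      rw [map_add]; exact Submodule.add_mem _ hx hy
    · intro a x _ hx
      rw [map_smul]; exact Submodule.smul_mem _ _ hx
  · have : w ∈ (⊥ : Submodule ℚ V) := h ▸ Submodule.subset_span hwN
    exact hw ((Submodule.mem_bot ℚ).1 this)

omit [FiniteDimensional ℚ V] in
theorem comm_of_line {K N : Subgroup G} (hn : ∀ k ∈ K, ∀ n ∈ N, k * n * k⁻¹ ∈ N) (hK : IrrOn σ K)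
    {w : V} (hw : w ≠ 0) (hwN : ∀ n ∈ N, σ n w = w ∨ σ n w = -w) {a b : G} (ha : a ∈ N) (hb : b ∈ N) :
    σ a * σ b = σ b * σ a := by
  have h := span_lines hn hK hw hwN
  refine LinearMap.ext_on h fun v hv => ?_
  rw [Module.End.mul_apply, Module.End.mul_apply]
  rcases hv a ha with h1 | h1 <;> rcases hv b hb with h2 | h2 <;> simp [h1, h2]

omit [FiniteDimensional ℚ V] in
theorem sq_of_line {K N : Subgroup G} (hn : ∀ k ∈ K, ∀ n ∈ N, k * n * k⁻¹ ∈ N) (hK : IrrOn σ K)
    {w : V} (hw : w ≠ 0) (hwN : ∀ n ∈ N, σ n w = w ∨ σ n w = -w) {a : G} (ha : a ∈ N) :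
    σ a * σ a = 1 := by
  have h := span_lines hn hK hw hwN
  refine LinearMap.ext_on h fun v hv => ?_
  rw [Module.End.mul_apply, Module.End.one_apply]
  rcases hv a ha with h1 | h1 <;> simp [h1]

/-- Weights of `N`. -/
def Wt (N : Subgroup G) : Type _ := N → ℚ

theorem conj_mem' (N : Subgroup G) [N.Normal] (g : G) (n : N) : (g⁻¹ * n * g : G) ∈ N := by
  have := ‹N.Normal›.conj_mem n n.2 g⁻¹
  rwa [inv_inv] at this

/-- The action on weights. -/
@[reducible] def wtAction (N : Subgroup G) [N.Normal] : MulAction G (Wt N) where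
  smul g l := fun n => l ⟨g⁻¹ * n * g, conj_mem' N g n⟩
  one_smul l := by
    funext n
    change l _ = l n
    congr 1
    exact Subtype.ext (by simp)
  mul_smul a b l := by
    funext n
    change l _ = l _
    congr 1
    exact Subtype.ext (by simp [mul_assoc])

variable (σ) in
/-- The weight space. -/
def wsp (N : Subgroup G) (l : Wt N) : Submodule ℚ V := ⨅ n : N, Module.End.eigenspace (σ (n : G)) (l n)

omit [FiniteDimensional ℚ V] in
theorem mem_wsp {N : Subgroup G} {l : Wt N} {v : V} : v ∈ wsp σ N l ↔ ∀ n : N, σ (n : G) v = l n • v := by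
  simp [wsp, Submodule.mem_iInf]

omit [FiniteDimensional ℚ V] in
theorem wsp_indep {N : Subgroup G} (hcomm : ∀ m n : N, σ (m : G) * σ (n : G) = σ (n : G) * σ (m : G)) :
    iSupIndep (wsp σ N) := by
  let f : N → Module.End ℚ V := fun n => σ (n : G)
  have h : iSupIndep fun χ : N → ℚ => ⨅ n, (f n).maxGenEigenspace (χ n) :=
    Module.End.independent_iInf_maxGenEigenspace_of_forall_mapsTo f (fun i j φ =>
      Module.End.mapsTo_maxGenEigenspace_of_comm (hcomm j i) φ)
  have h2 : iSupIndep fun χ : N → ℚ => ⨅ n, (f n).eigenspace (χ n) :=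
    h.mono fun l => iInf_mono fun n => ((f n).genEigenspace (l n)).mono le_top
  exact h2

/-- If the elements of `N` act diagonally, then they are scalar or the whole group has a subgroup of index
`finrank V`. -/
theorem scalar_of_line [Finite G] (hV : (finrank ℚ V).Prime) {N : Subgroup G} [N.Normal]
    (hG : IrrOn σ ⊤) {w : V} (hw : w ≠ 0) (hwN : ∀ n ∈ N, σ n w = w ∨ σ n w = -w)
    (hidx : ∀ H : Subgroup G, H.index ≠ finrank ℚ V) {a : G} (ha : a ∈ N) : σ a = 1 ∨ σ a = -1 := by
  classical
  have hn : ∀ k ∈ (⊤ : Subgroup G), ∀ n ∈ N, k * n * k⁻¹ ∈ N := fun k _ n hn => ‹N.Normal›.conj_mem n hn k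
  have hcomm : ∀ m n : N, σ (m : G) * σ (n : G) = σ (n : G) * σ (m : G) := fun m n =>
    comm_of_line hn hG hw hwN m.2 n.2
  have hind := wsp_indep hcomm
  let _ : MulAction G (Wt N) := wtAction N
  have hsmul : ∀ (g : G) (l : Wt N) (n : N), (g • l) n = l ⟨g⁻¹ * n * g, conj_mem' N g n⟩ := fun _ _ _ => rfl
  -- the weight of `w`
  let l₀ : Wt N := fun n => if σ (n : G) w = w then 1 else -1
  have hl₀ : w ∈ wsp σ N l₀ := by
    rw [mem_wsp]
    intro n
    by_cases h : σ (n : G) w = w
    · simp [l₀, h]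
    · have := (hwN n n.2).resolve_left h
      simp only [l₀, h, if_false]
      rw [this, neg_smul, one_smul]
  have hmap : ∀ (g : G) (l : Wt N), (wsp σ N l).map (σ g) = wsp σ N (g • l) := by
    have h1 : ∀ (g : G) (l : Wt N), (wsp σ N l).map (σ g) ≤ wsp σ N (g • l) := by
      rintro g l _ ⟨v, hv, rfl⟩
      rw [mem_wsp]
      intro n
      have h2 := mem_wsp.1 hv ⟨g⁻¹ * n * g, conj_mem' N g n⟩
      have e : σ (n : G) (σ g v) = σ g (σ (g⁻¹ * n * g) v) := by
        rw [← Module.End.mul_apply, ← Module.End.mul_apply, ← map_mul, ← map_mul]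
        congr 2
        group
      rw [e, hsmul]
      change σ g (σ (g⁻¹ * n * g) v) = _
      have h3 : σ (g⁻¹ * n * g) v = l ⟨g⁻¹ * n * g, conj_mem' N g n⟩ • v := h2
      rw [h3, map_smul]
    intro g l
    refine le_antisymm (h1 g l) fun v hv => ?_
    have h2 := h1 g⁻¹ (g • l) (Submodule.mem_map_of_mem hv)
    rw [inv_smul_smul] at h2
    exact ⟨_, h2, apply_inv_self σ g v⟩
  -- the orbit
  let O : Set (Wt N) := MulAction.orbit G l₀
  have hOfin : Finite O := Set.finite_range _
  have : Fintype O := Fintype.ofFinite O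
  have hsup : ⨆ l : O, wsp σ N l = ⊤ := by
    refine (hG _ fun g _ v hv => ?_).resolve_left fun h => ?_
    · have h1 : (⨆ l : O, wsp σ N l).map (σ g) ≤ ⨆ l : O, wsp σ N l := by
        rw [Submodule.map_iSup]
        refine iSup_le fun l => ?_
        rw [hmap]
        exact le_iSup (fun l : O => wsp σ N l) ⟨g • (l : Wt N), MulAction.mem_orbit_of_mem_orbit g l.2⟩
      exact h1 (Submodule.mem_map_of_mem hv)
    · have h1 : wsp σ N l₀ ≤ ⨆ l : O, wsp σ N l :=
        le_iSup (fun l : O => wsp σ N l) ⟨l₀, MulAction.mem_orbit_self l₀⟩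
      rw [h] at h1
      exact hw ((Submodule.mem_bot ℚ).1 (h1 hl₀))
  have hindO : iSupIndep fun l : O => wsp σ N l := hind.comp Subtype.val_injective
  have hint := DirectSum.isInternal_submodule_of_iSupIndep_of_iSup_eq_top hindO hsup
  have hfr : finrank ℚ V = Fintype.card O * finrank ℚ (wsp σ N l₀) := by
    rw [← (LinearEquiv.ofBijective (DirectSum.coeLinearMap fun l : O => wsp σ N l) hint).finrank_eq,
      Module.finrank_directSum]
    rw [Finset.sum_congr rfl (g := fun _ => finrank ℚ (wsp σ N l₀)) fun l _ => ?_]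
    · simp
    · obtain ⟨l, g, rfl⟩ := l
      change finrank ℚ (wsp σ N (g • l₀)) = _
      rw [← hmap]
      exact (Submodule.equivMapOfInjective (σ g) (injective_apply σ g) _).finrank_eq.symm
  have hcardO : Fintype.card O = (MulAction.stabilizer G l₀).index := by
    rw [MulAction.index_stabilizer, ← Nat.card_eq_fintype_card, Nat.card_coe_set_eq]
  have h1 : Fintype.card O ∣ finrank ℚ V := ⟨_, hfr⟩
  rcases (Nat.dvd_prime hV).1 h1 with h2 | h2
  · -- only one weight
    have h3 : wsp σ N l₀ = ⊤ := by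
      rw [← hsup]
      refine le_antisymm (le_iSup (fun l : O => wsp σ N l) ⟨l₀, MulAction.mem_orbit_self l₀⟩)
        (iSup_le fun l => ?_)
      have := (Fintype.card_le_one_iff.1 h2.le) l ⟨l₀, MulAction.mem_orbit_self l₀⟩
      rw [this]
    have h4 : ∀ v, σ a v = l₀ ⟨a, ha⟩ • v := fun v => mem_wsp.1 (h3 ▸ Submodule.mem_top) ⟨a, ha⟩
    by_cases h5 : σ a w = w
    · left
      ext v
      rw [h4]; simp [l₀, h5]
    · right
      ext v
      rw [h4]; simp [l₀, h5]
  · exact absurd (hcardO ▸ h2) (hidx _)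

end Rep

end Cfsg.Agent.H347.Rat
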