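import Cfsg.Agent.H347.Rat.Cands
import Cfsg.Agent.H347.Rat.Embed
import Cfsg.Agent.H347.Rat.IndexM
import Cfsg.Agent.H347.Rat.Alt25
import Cfsg.Agent.H347.Rat.Co1
import Cfsg.Agent.H347.Rat.Fi23
/-!
Faithful irreducible rational representations of degree `23`.
-/

set_option autoImplicit false

namespace Cfsg.Agent.H347.Rat

open Module Cfsg Cfsg.Agent.OrdDiv

universe u v

variable {V : Type v} [AddCommGroup V] [Module ℚ V] [FiniteDimensional ℚ V]
variable {G : Type u} [Group G] {σ : Representation ℚ G V}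

theorem good_of_irrOn [Finite G] (hinj : Function.Injective σ) (hV : finrank ℚ V = 23) {T : Subgroup G}
    (hT : IrrOn σ T) : Good T (chi (σ.comp T.subtype)) := by
  have : Fintype T := Fintype.ofFinite T
  refine ⟨?_, fun g hg => ?_, fun g => ⟨_, rfl⟩, ?_⟩
  · refine Cfsg.Agent.Characters.Core.isIrr_of_classInner_self (isCharacter_chi _)
      (classInner_chi _ (by rw [hV]; norm_num) fun φ hφ => ?_)
    exact comm_scalar (by rw [hV]; norm_num) (by rw [hV]; decide) hT φ fun k hk => hφ ⟨k, hk⟩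
  · have h1 : σ (g : G) = 1 := eq_one_of_chi _ g hg
    exact Subtype.ext (hinj (h1.trans (map_one σ).symm))
  · rw [chi_one, hV]

/-- **The theorem**, modulo the classification, the table of orders and the facts on `Co₂`, `Co₃`, `Fi₂₃`. -/
theorem main [Finite G] (hinj : Function.Injective σ) (hV : finrank ℚ V = 23) (hG : IrrOn σ ⊤)
    (hidx : ∀ H : Subgroup G, H.index ≠ 23 ∧ H.index ≠ 24) (Tb : OrderTable.{u})
    (hS : ∀ (S : Type u) [Group S] [Finite S] [IsSimpleGroup S], IsKnownSimple' S)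
    (h2 : ∀ α : MulAut Spor.Co2, ∃ k : Spor.Co2, α = MulAut.conj k)
    (h3 : ∀ α : MulAut Spor.Co3, ∃ k : Spor.Co3, α = MulAut.conj k)
    (hFi : Cfsg.Agent.OddHalf.D8.Fi23.Has Spor.Fi23) :
    (∃ f : G →* Multiplicative (ZMod 2) × Cfsg.Spor.Co2, Function.Injective f) ∨
    (∃ f : G →* Multiplicative (ZMod 2) × Cfsg.Spor.Co3, Function.Injective f) := by
  have hodd : Odd (finrank ℚ V) := by rw [hV]; decide
  obtain ⟨T, hTn, hTs, hTna, hTirr, hTC⟩ := exists_simple hinj (by rw [hV]; norm_num) hodd hG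
    fun H => by rw [hV]; exact (hidx H).1
  have hna : ¬ ∀ a b : T, a * b = b * a := fun h => hTna fun x hx y hy =>
    congrArg Subtype.val (h ⟨x, hx⟩ ⟨y, hy⟩)
  have hcen := cen_trivial hTs hna
  obtain ⟨f, hf⟩ := (good_of_irrOn hinj hV hTirr).exists_int
  obtain ⟨g, hg, hr, hc⟩ := cand Tb (hS T) hna hf
  have hinn : ∀ {S : Type} [Group S] (e : T ≃* S), (∀ α : MulAut S, ∃ k : S, α = MulAut.conj k) →
      ∀ α : T ≃* T, ∃ k : T, ∀ x, α x = k * x * k⁻¹ := by
    intro S _ e h α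
    obtain ⟨k, hk⟩ := h ((MulAut.congr e) α)
    refine ⟨e.symm k, fun x => ?_⟩
    have h1 := congrArg (fun f : MulAut S => f (e x)) hk
    change e (α (e.symm (e x))) = k * e x * k⁻¹ at h1
    rw [e.symm_apply_apply] at h1
    apply e.injective
    rw [h1, map_mul, map_mul, map_inv, e.apply_symm_apply]
  simp only [List.mem_cons, List.not_mem_nil, or_false] at hg
  rcases hg with rfl | rfl | rfl | rfl | rfl | rfl | rfl | rfl | rfl | rfl
  · obtain ⟨e⟩ := hr
    obtain ⟨H, hH⟩ := index_alt T (by norm_num) e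
    exact absurd hH (hidx H).1
  · obtain ⟨e⟩ := hr
    obtain ⟨H, hH⟩ := index_alt T (by norm_num) e
    exact absurd hH (hidx H).2
  · obtain ⟨e⟩ := hr
    exact (not_alt25 (hf.comp e.symm)).elim
  · obtain ⟨H, hH⟩ := index_6072 T hTs (by rw [hc]; decide +kernel)
    exact absurd hH (hidx H).2
  · obtain ⟨H, hH⟩ := index_m23 T hcen hr
    exact absurd hH (hidx H).1
  · obtain ⟨H, hH⟩ := index_m24 T hcen hr
    exact absurd hH (hidx H).2
  · obtain ⟨e⟩ := hr
    exact (not_co1 (hf.comp e.symm)).elim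
  · obtain ⟨e⟩ := hr
    exact Or.inl (exists_embedding hinj hodd T hcen (hinn e h2) hTC e)
  · obtain ⟨e⟩ := hr
    exact Or.inr (exists_embedding hinj hodd T hcen (hinn e h3) hTC e)
  · obtain ⟨e⟩ := hr
    obtain ⟨A, P, a, h⟩ := hFi
    exact (not_sheet h (hf.comp e.symm)).elim

end Cfsg.Agent.H347.Rat
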