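import Cfsg.Agent.H347.Rat.Lin
import Cfsg.Agent.Lib.MinNormalNonabelian
/-!
A finite group with a faithful irreducible rational representation of odd prime degree `p` and without subgroup of index `p`
has a non-abelian simple normal subgroup acting irreducibly.
-/

set_option autoImplicit false

namespace Cfsg.Agent.H347.Rat

open Module Cfsg.Agent.Lib

variable {V : Type*} [AddCommGroup V] [Module ℚ V] [FiniteDimensional ℚ V]
variable {G : Type*} [Group G] {σ : Representation ℚ G V}

omit [FiniteDimensional ℚ V] in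
/-- A scalar group is not irreducible. -/
theorem finrank_le_one_of_scalar {K : Subgroup G} (hK : IrrOn σ K) (h : ∀ k ∈ K, σ k = 1 ∨ σ k = -1) :
    finrank ℚ V ≤ 1 := by
  by_cases hV : ∀ v : V, v = 0
  · have : Subsingleton V := ⟨fun a b => (hV a).trans (hV b).symm⟩
    rw [finrank_zero_of_subsingleton]; exact zero_le_one
  push Not at hV
  obtain ⟨v, hv⟩ := hV
  have h1 : Submodule.span ℚ {v} = ⊤ := by
    refine (hK _ fun k hk w hw => ?_).resolve_left fun h => hv ?_
    · rcases h k hk with h2 | h2 <;> rw [h2]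
      · exact hw
      · simpa using hw
    · exact Submodule.span_singleton_eq_bot.1 h
  rw [← finrank_top ℚ V, ← h1]
  exact finrank_span_le_card ({v} : Set V) |>.trans (by simp)

/-- **Reduction.** -/
theorem exists_simple [Finite G] (hinj : Function.Injective σ) (hV : (finrank ℚ V).Prime)
    (hodd : Odd (finrank ℚ V)) (hG : IrrOn σ ⊤) (hidx : ∀ H : Subgroup G, H.index ≠ finrank ℚ V) :
    ∃ T : Subgroup G, T.Normal ∧ IsSimpleGroup T ∧ (¬ ∀ x ∈ T, ∀ y ∈ T, x * y = y * x) ∧ IrrOn σ T ∧
      ∀ x : G, (∀ t ∈ T, x * t = t * x) → σ x = 1 ∨ σ x = -1 := by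
  classical
  -- the kernel of the determinant
  let D : G →* ℚ := (LinearMap.det : (V →ₗ[ℚ] V) →* ℚ).comp σ
  have hD : ∀ g, D g = LinearMap.det (σ g) := fun _ => rfl
  let G₀ : Subgroup G := D.ker
  have hG₀n : G₀.Normal := inferInstance
  have hneg : ∀ x ∈ G₀, (σ x = 1 ∨ σ x = -1) → x = 1 := by
    rintro x hx (h | h)
    · exact hinj (h.trans (map_one σ).symm)
    · exfalso
      have h1 : LinearMap.det (σ x) = 1 := hx
      rw [h] at h1
      have h2 : LinearMap.det (-1 : V →ₗ[ℚ] V) = (-1) ^ finrank ℚ V := by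
        have h3 : (-1 : V →ₗ[ℚ] V) = (-1 : ℚ) • (1 : V →ₗ[ℚ] V) := by simp
        rw [h3, LinearMap.det_smul, map_one, mul_one]
      rw [h2, hodd.neg_one_pow] at h1
      norm_num at h1
  have hsq : ∀ g : G, g * g ∈ G₀ := by
    intro g
    change D (g * g) = 1
    have h1 : D g ^ Nat.card G = 1 := by rw [← map_pow, pow_card_eq_one', map_one]
    have h2 : |D g| = 1 := by
      have : |D g| ^ Nat.card G = 1 := by rw [← abs_pow, h1, abs_one]
      exact (pow_eq_one_iff_of_nonneg (abs_nonneg _) Nat.card_pos.ne').1 this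
    rw [map_mul, ← abs_mul_abs_self, h2, one_mul]
  have hG₀ : G₀ ≠ ⊥ := by
    intro h
    have h1 : ∀ g : G, g * g = 1 := fun g => by
      have := hsq g
      rwa [h, Subgroup.mem_bot] at this
    have h2 : ∀ x y : G, x * y = y * x := by
      intro x y
      have e : ∀ g : G, g⁻¹ = g := fun g => inv_eq_of_mul_eq_one_left (h1 g)
      calc x * y = (x * y)⁻¹ := (e _).symm
        _ = y⁻¹ * x⁻¹ := mul_inv_rev _ _
        _ = y * x := by rw [e, e]
    have h3 := finrank_le_one_of_scalar hG fun k _ => scalar_of_comm hodd hG fun l _ => h2 k l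
    exact absurd hV.one_lt (by omega)
  -- a minimal normal subgroup in `G₀`
  obtain ⟨N, ⟨hNn, hN0, hNle⟩, hNmin⟩ := (wellFounded_lt (α := Subgroup G)).has_min
    {N : Subgroup G | N.Normal ∧ N ≠ ⊥ ∧ N ≤ G₀} ⟨G₀, hG₀n, hG₀, le_rfl⟩
  have hmin : ∀ M : Subgroup G, M.Normal → M ≤ N → M = ⊥ ∨ M = N := by
    intro M hM hMN
    by_contra hno
    push Not at hno
    exact hNmin M ⟨hM, hno.1, hMN.trans hNle⟩ (lt_of_le_of_ne hMN hno.2)
  have hnconj : ∀ k ∈ (⊤ : Subgroup G), ∀ n ∈ N, k * n * k⁻¹ ∈ N := fun k _ n hn => hNn.conj_mem n hn k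
  -- `N` is irreducible
  have hNirr : IrrOn σ N := by
    rcases clifford hV hnconj hG with h | ⟨w, hw, hwN⟩
    · exact h
    · exfalso
      apply hN0
      rw [Subgroup.eq_bot_iff_forall]
      intro x hx
      exact hneg x (hNle hx) (scalar_of_line hV hG hw hwN hidx hx)
  have hNna : ¬ ∀ x ∈ N, ∀ y ∈ N, Commute x y := by
    intro h
    apply hN0
    rw [Subgroup.eq_bot_iff_forall]
    intro x hx
    exact hneg x (hNle hx) (scalar_of_comm hodd hNirr fun k hk => h x hx k hk)
  obtain ⟨⟨T, hT⟩, hind, hsup, hsimp, hcen, -⟩ := MinNormalNonabelian.nonabelian_structure N hmin hNna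
  have hTna : ¬ ∀ x ∈ T, ∀ y ∈ T, x * y = y * x := by
    intro h
    apply hT.2.1
    rw [Subgroup.eq_bot_iff_forall]
    intro x hx
    exact hcen T hT x hx fun t ht => h x hx t ht
  have hTconj : ∀ k ∈ N, ∀ n ∈ T, k * n * k⁻¹ ∈ T := fun k hk n hn =>
    (Subgroup.mem_normalizer_iff.1 (hT.2.2.1 hk) n).1 hn
  have hTirr : IrrOn σ T := by
    rcases clifford hV hTconj hNirr with h | ⟨w, hw, hwT⟩
    · exact h
    · exfalso
      apply hTna
      intro x hx y hy
      apply hinj
      rw [map_mul, map_mul]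
      exact comm_of_line hTconj hNirr hw hwT hx hy
  have hTN : T = N := by
    have hsub : MinNormalNonabelian.minSet N ⊆ {T} := by
      intro T' hT'
      by_contra hne
      apply hT'.2.1
      rw [Subgroup.eq_bot_iff_forall]
      intro x hx
      refine hneg x (hNle (hT'.1 hx)) (scalar_of_comm hodd hTirr fun k hk => ?_)
      exact (MinNormal.commute_of_mem hind (fun S hS => hS.2.2.1) (fun S hS => hS.1) hT' hT hne hx hk).eq
    have h1 : MinNormalNonabelian.minSet N = {T} :=
      Set.Subset.antisymm hsub (Set.singleton_subset_iff.2 hT)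
    rw [← hsup, h1, sSup_singleton]
  refine ⟨T, hTN ▸ hNn, hsimp T hT, hTna, hTirr, fun x hx => scalar_of_comm hodd hTirr hx⟩

end Cfsg.Agent.H347.Rat
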